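import Groth.Agent.Fdesc.LocGen

/-!
# Invertible modules: triviality over an open subset in terms of generators
-/

set_option autoImplicit false
universe u

open CategoryTheory AlgebraicGeometry TopologicalSpace Opposite
open Groth.Agent.Fdesc

namespace K246.Basic

variable {X Y : Scheme.{u}}

/-- A generator over `U` trivialises the restriction to `U`. -/
theorem nonempty_iso_of_isGen {L : X.Modules} {U : X.Opens} {e : Γ(L, U)} (he : LocGen.IsGen e) :
    Nonempty (L.restrict U.ι ≅ Coh.structureModule (U : Scheme.{u})) := by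
  have hU : U.ι ''ᵁ ⊤ ≤ U := by simp
  have h1 : LocGen.IsGen (LocGen.toRestrict (M := L) U.ι (U := ⊤) (LocGen.res L hU e)) :=
    (LocGen.isGen_toRestrict_iff _ _).mpr (he.res hU)
  have : IsIso (LocGen.homOf (LocGen.toRestrict (M := L) U.ι (U := ⊤) (LocGen.res L hU e))) := by
    rw [LocGen.isIso_iff_isGen, LocGen.sec_homOf]
    simpa using h1
  exact ⟨(asIso (LocGen.homOf (LocGen.toRestrict (M := L) U.ι (U := ⊤) (LocGen.res L hU e)))).symm⟩

/-- A module whose restriction to `U` is trivial has a generator over `U`. -/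
theorem exists_isGen_of_iso {L : X.Modules} {U : X.Opens}
    (e : L.restrict U.ι ≅ Coh.structureModule (U : Scheme.{u})) :
    ∃ s : Γ(L, U), LocGen.IsGen s := by
  have h1 : LocGen.IsGen (LocGen.sec e.inv ⊤) := (LocGen.isIso_iff_isGen e.inv).mp inferInstance
  obtain ⟨m, hm⟩ := (LocGen.toRestrict (M := L) U.ι (U := ⊤)).surjective (LocGen.sec e.inv ⊤)
  rw [← hm, LocGen.isGen_toRestrict_iff] at h1
  have hU : U ≤ U.ι ''ᵁ ⊤ := by simp
  exact ⟨LocGen.res L hU m, h1.res hU⟩

/-- Triviality of the restriction to `U` in terms of generators. -/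
theorem nonempty_iso_iff {L : X.Modules} {U : X.Opens} :
    Nonempty (L.restrict U.ι ≅ Coh.structureModule (U : Scheme.{u})) ↔
      ∃ s : Γ(L, U), LocGen.IsGen s :=
  ⟨fun ⟨e⟩ ↦ exists_isGen_of_iso e, fun ⟨_, hs⟩ ↦ nonempty_iso_of_isGen hs⟩

/-- A global generator gives an isomorphism with the structure sheaf. -/
theorem nonempty_iso_of_isGen_top {L : X.Modules} {e : Γ(L, ⊤)} (he : LocGen.IsGen e) :
    Nonempty (L ≅ Coh.structureModule X) := by
  have h2 : IsIso (LocGen.homOf e) := by
    rw [LocGen.isIso_iff_isGen, LocGen.sec_homOf]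
    exact he.res _
  exact ⟨(asIso (LocGen.homOf e)).symm⟩

/-- Triviality in terms of a global generator. -/
theorem nonempty_iso_iff_top {L : X.Modules} :
    Nonempty (L ≅ Coh.structureModule X) ↔ ∃ s : Γ(L, ⊤), LocGen.IsGen s := by
  refine ⟨fun ⟨e⟩ ↦ ⟨LocGen.sec e.inv ⊤, (LocGen.isIso_iff_isGen e.inv).mp inferInstance⟩,
    fun ⟨_, hs⟩ ↦ nonempty_iso_of_isGen_top hs⟩

/-- The structure sheaf is invertible. -/
theorem isInvertible_structureModule (T : Scheme.{u}) :
    PicF.IsInvertible (Coh.structureModule T) :=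
  (LocGen.isInvertible_iff _).2 fun _ ↦ ⟨⊤, LocGen.one ⊤, trivial, LocGen.isGen_one ⊤⟩

/-- Restrictions of invertible modules along open immersions are invertible. -/
theorem isInvertible_restrict {L : Y.Modules} (hL : PicF.IsInvertible L) (f : X ⟶ Y)
    [IsOpenImmersion f] : PicF.IsInvertible (L.restrict f) := by
  refine (LocGen.isInvertible_iff _).2 fun x ↦ ?_
  obtain ⟨U, e, hxU, he⟩ := (LocGen.isInvertible_iff L).1 hL (f x)
  have hU : f ''ᵁ (f ⁻¹ᵁ U) ≤ U := by
    rw [f.image_preimage_eq_opensRange_inf]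
    exact inf_le_right
  exact ⟨f ⁻¹ᵁ U, LocGen.toRestrict (M := L) f (LocGen.res L hU e), hxU,
    (LocGen.isGen_toRestrict_iff _ _).2 (he.res hU)⟩

end K246.Basic
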