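import Groth.Agent.Dix.IdealModCartier
import Groth.Agent.Ega2.IdealAmple
import Groth.Agent.Grpsch.PicGrp

/-!
# The canonical section of an inverse of an invertible ideal
-/

set_option autoImplicit false
universe u

open CategoryTheory CategoryTheory.Limits AlgebraicGeometry TopologicalSpace Opposite
open Groth.Agent.Fdesc.LocGen Groth.Agent.Dix.IdealModCartier

namespace K246.CanSec

variable {X : Scheme.{u}}

/-- `s` is, locally, a generator of `L` times a nonzerodivisor generating `D`. -/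
def IsCan (D : X.IdealSheafData) (L : X.Modules) (s : Γ(L, ⊤)) : Prop :=
  ∀ x : X, ∃ (U : X.affineOpens) (g : Γ(L, U.1)) (a : Γ(X, U.1)), x ∈ U.1 ∧ IsGen g ∧ GenOn D a ∧
    res L le_top s = a • g

/-- The canonical section. -/
theorem exists_isCan {D : X.IdealSheafData} {L : X.Modules}
    (h : ClSub.IsInverseOf L (ClSub.idealMod D)) : ∃ s : Γ(L, ⊤), IsCan D L s := by
  obtain ⟨hL, hJ⟩ := isInvertible_of_isInverseOf h
  obtain ⟨e⟩ := h
  have h1 : Groth.Agent.Grpsch.PicGrp.mk _ hL * Groth.Agent.Grpsch.PicGrp.mk _ hJ = 1 := by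
    rw [Groth.Agent.Grpsch.PicGrp.mk_mul_mk, Groth.Agent.Grpsch.PicGrp.mk_eq_one_iff]
    exact ⟨e⟩
  rw [mul_comm, Groth.Agent.Grpsch.PicGrp.mk_mul_mk, Groth.Agent.Grpsch.PicGrp.mk_eq_one_iff] at h1
  obtain ⟨e'⟩ := h1
  refine ⟨(Groth.Agent.Ega2.IdealAmple.mulMap D L).app ⊤ (e'.inv.app ⊤ (one ⊤)), fun x => ?_⟩
  obtain ⟨U₁, g, hx₁, hg⟩ := (isInvertible_iff L).1 hL x
  obtain ⟨U₂, j, hx₂, hj⟩ := (isInvertible_iff _).1 hJ x
  obtain ⟨U, hxU, hU⟩ := exists_affine_mem_le (U₁ ⊓ U₂) x ⟨hx₁, hx₂⟩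
  have hg' := hg.res (hU.trans inf_le_left)
  have hj' := hj.res (hU.trans inf_le_right)
  set g' := res L (hU.trans inf_le_left) g
  set j' := res (ClSub.idealMod D) (hU.trans inf_le_right) j
  have hgen := hj'.tmul hg'
  have hone : IsGen (e'.inv.app U.1 (one U.1)) := (isGen_one U.1).app e'.inv
  obtain ⟨u, hu, hu'⟩ := hgen.exists_unit hone
  refine ⟨U, u • g', Groth.Agent.Dix.IdealModCartier.val D j', hxU, hg'.unit_smul hu,
    genOn_of_isGen hj', ?_⟩
  rw [← app_res, ← app_res, res_one, hu', Scheme.Modules.Hom.app_smul]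
  have h2 : (Groth.Agent.Ega2.IdealAmple.mulMap D L).app U.1
      (Groth.Agent.Fdesc.LocGen.tmul j' g') = Groth.Agent.Dix.IdealModCartier.val D j' • g' :=
    Groth.Agent.Ega2.IdealAmple.mulMap_tmul D j' g'
  rw [h2, smul_comm]

/-- The zero scheme of the canonical section. -/
theorem pullSec_eq_zero_iff {Z : Scheme.{u}} {D : X.IdealSheafData} {L : X.Modules} {s : Γ(L, ⊤)}
    (hs : IsCan D L s) (h : Z ⟶ X) : pullSec h s = 0 ↔ D ≤ h.ker := by
  choose U g a hxU hg ha hsa using hs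
  constructor
  · intro h0
    refine Scheme.IdealSheafData.le_ofIdeals_iff.2 fun U' b hb => ?_
    rw [RingHom.mem_ker]
    have h2 : ∀ x : X, h.app (U x).1 (a x) = 0 := by
      intro x
      refine ((hg x).pullSec h).ext ?_
      rw [← pullSec_smul, ← hsa, ← res_pullSec, h0, zero_smul, map_zero]
    have hloc : ∀ (x : X) (W : X.affineOpens) (hW : W.1 ≤ (U x).1 ⊓ U'.1),
        h.app W.1 (ores (hW.trans inf_le_right) b) = 0 := by
      intro x W hW
      have hbW : ores (hW.trans inf_le_right) b ∈ D.ideal W := by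
        have := D.map_ideal (U := W) (V := U') (hW.trans inf_le_right)
        rw [← this]
        exact Ideal.mem_map_of_mem _ hb
      rw [(ha x W (hW.trans inf_le_left)).2, Ideal.mem_span_singleton'] at hbW
      obtain ⟨c, hc⟩ := hbW
      rw [← hc, map_mul]
      have h3 : h.app W.1 (ores (hW.trans inf_le_left) (a x)) =
          ores (h.preimage_mono (hW.trans inf_le_left)) (h.app (U x).1 (a x)) :=
        congr($(h.naturality (homOfLE (hW.trans inf_le_left)).op) (a x))
      rw [h3, h2, map_zero, mul_zero]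
    refine ores_ext (fun W : {W : X.affineOpens // ∃ x : X, W.1 ≤ (U x).1 ⊓ U'.1} => h ⁻¹ᵁ W.1.1)
      (fun W => h.preimage_mono (W.2.choose_spec.trans inf_le_right)) ?_ fun W => ?_
    · intro z' hz'
      obtain ⟨W, hxW, hW⟩ := exists_affine_mem_le ((U (h z')).1 ⊓ U'.1) (h z')
        ⟨hxU (h z'), hz'⟩
      exact Opens.mem_iSup.2 ⟨⟨W, h z', hW⟩, hxW⟩
    · rw [map_zero, ← hloc W.2.choose W.1 W.2.choose_spec]
      exact congr($(h.naturality (homOfLE (W.2.choose_spec.trans inf_le_right)).op) b).symm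
  · intro hD
    refine res_ext _ (fun z : Z => h ⁻¹ᵁ (U (h z)).1) (fun z => le_top)
      (fun z _ => Opens.mem_iSup.2 ⟨z, hxU (h z)⟩) fun z => ?_
    have h1 : res ((Scheme.Modules.pullback h).obj L) (h.preimage_mono (le_top : (U (h z)).1 ≤ ⊤))
        (pullSec h s) = 0 := by
      rw [res_pullSec h le_top, hsa, pullSec_smul]
      have h2 : a (h z) ∈ D.ideal (U (h z)) := by
        rw [(ha (h z) (U (h z)) le_rfl).2]
        simp
      have h3 : h.app (U (h z)).1 (a (h z)) = 0 :=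
        Scheme.IdealSheafData.le_ofIdeals_iff.1 hD (U (h z)) h2
      rw [h3, zero_smul]
    exact h1.trans (map_zero (res ((Scheme.Modules.pullback h).obj L) _)).symm

end K246.CanSec
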