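import Groth.Agent.PicF.K246.FunAlg
import Groth.Agent.Flat2F.RepH0
import Groth.Agent.Krr.H484.PBUnique
import Groth.Agent.Fdesc.LocGenPullback

/-!
# A section which spans the sections on all closed fibres spans the sections
-/

set_option autoImplicit false
universe u

open CategoryTheory CategoryTheory.Limits AlgebraicGeometry TopologicalSpace Opposite
open Groth.Agent.Fdesc.LocGen
open Groth.Agent.VarietyB.PullSec (sec_apply)
open Groth.Agent.Flat2F.BCSec (tr tr_sec cmp)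

namespace K246.GenSec

theorem sec_top {X Y : Scheme.{u}} (g : Y ⟶ X) (M : X.Modules) (s : Γ(M, ⊤)) :
    Groth.Agent.VarietyB.PullSec.sec g M (U := ⊤) (V := ⊤) le_top s = pullTop g s := by
  rw [sec_apply]
  exact Groth.Agent.Fdesc.LocGen.res_refl ((Scheme.Modules.pullback g).obj M) _

theorem pullTop_id_injective {X : Scheme.{u}} {M : X.Modules} {s t : Γ(M, ⊤)}
    (h : pullTop (𝟙 X) s = pullTop (𝟙 X) t) : s = t := by
  have h1 := Groth.Agent.Krr.H484.PBUnique.id_pullSec (V := ⊤) s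
  have h2 := Groth.Agent.Krr.H484.PBUnique.id_pullSec (V := ⊤) t
  rw [← h1, ← h2]
  exact congrArg (((Scheme.Modules.pullbackId X).hom.app M).app ⊤) h

theorem pullTop_smul {X Y : Scheme.{u}} (g : Y ⟶ X) {M : X.Modules} (a : Γ(X, ⊤)) (s : Γ(M, ⊤)) :
    pullTop g (a • s) = (g.appTop a : Γ(Y, ⊤)) • pullTop g s :=
  pullSec_smul g a s

/-- the functions from the base. -/
noncomputable def gb {A : CommRingCat.{u}} {W : Scheme.{u}} (h : W ⟶ Spec A) (c : A) : Γ(W, ⊤) :=
  h.appTop ((Scheme.ΓSpecIso A).inv c)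

variable {A : CommRingCat.{u}} {W : Scheme.{u}} (h : W ⟶ Spec A) [Flat h] [IsProper h]
  [LocallyOfFinitePresentation h]

theorem exists_smul {L : W.Modules} (hL : FlatMod.IsFinLocFree L) (s : Γ(L, ⊤))
    (hs : ∀ (m : Ideal A), m.IsMaximal → ∀ (W' : Scheme.{u}) (a : W' ⟶ W)
      (h' : W' ⟶ Spec (CommRingCat.of (A ⧸ m))),
      IsPullback a h' h (Spec.map (CommRingCat.ofHom (Ideal.Quotient.mk m))) →
        pullTop a s ≠ 0 ∧ ∀ u : Γ((Scheme.Modules.pullback a).obj L, ⊤),
          ∃ c : CommRingCat.of (A ⧸ m), u = gb h' c • pullTop a s) (u : Γ(L, ⊤)) :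
    ∃ c : A, u = gb h c • s := by
  obtain ⟨R⟩ := Groth.Agent.Flat2F.RepH0.exists_repH0 h L hL
  have H0 : IsPullback (𝟙 W) h h (Spec.map (𝟙 A)) := by
    rw [Spec.map_id]
    exact IsPullback.of_horiz_isIso_mono ⟨by simp⟩
  have := R.fp
  obtain ⟨α, hα⟩ := (R.bij H0).2 (pullTop (𝟙 W) s)
  obtain ⟨β, hβ⟩ := (R.bij H0).2 (pullTop (𝟙 W) u)
  -- the semilinear maps as linear maps
  let lin : (R.M →ₛₗ[(𝟙 A : A ⟶ A).hom] A) → (R.M →ₗ[A] A) := fun γ =>
    { toFun := γ
      map_add' := map_add γ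
      map_smul' := fun r m => γ.map_smulₛₗ r m }
  have key : ∀ (m : Ideal A) (hm : m.IsMaximal) (δ : R.M →ₛₗ[(𝟙 A : A ⟶ A).hom] A) (v : Γ(L, ⊤)),
      R.θ H0 δ = pullTop (𝟙 W) v → ∀ (W' : Scheme.{u}) (a : W' ⟶ W)
      (h' : W' ⟶ Spec (CommRingCat.of (A ⧸ m)))
      (H' : IsPullback a h' h
        (Spec.map (𝟙 A ≫ CommRingCat.ofHom (Ideal.Quotient.mk m))))
      (ε : R.M →ₛₗ[(𝟙 A ≫ CommRingCat.ofHom (Ideal.Quotient.mk m)).hom]
        CommRingCat.of (A ⧸ m)), (∀ x, ε x = Ideal.Quotient.mk m (δ x)) →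
      R.θ H' ε = pullTop a v := by
    intro m hm δ v hv W' a h' H' ε hε
    have h1 := R.nat H0 (CommRingCat.ofHom (Ideal.Quotient.mk m)) H' a (Category.comp_id a)
      (by rw [H'.w]; simp) δ ε hε
    rw [h1, hv, ← sec_top, ← sec_top]
    exact tr_sec a (𝟙 W) a (Category.comp_id a) L le_top le_top le_top v
  obtain ⟨c, hc⟩ := K246.FunAlg.exists_eq_mul (lin α) (fun m hm => by
    by_contra hcon
    push Not at hcon
    have H' : IsPullback (pullback.fst h (Spec.map (𝟙 A ≫ CommRingCat.ofHom (Ideal.Quotient.mk m))))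
      (pullback.snd _ _) h (Spec.map (𝟙 A ≫ CommRingCat.ofHom (Ideal.Quotient.mk m))) :=
      IsPullback.of_hasPullback _ _
    have h1 := key m hm α s hα _ _ _ H' 0 (fun x => by
      rw [LinearMap.zero_apply]
      exact (Ideal.Quotient.eq_zero_iff_mem.2 (hcon x)).symm)
    have h0 : R.θ H' 0 = 0 := by
      have := R.add H' 0 0
      rw [add_zero] at this
      exact (left_eq_add.1 this)
    rw [h0] at h1
    exact (hs m hm _ _ _ (by simpa using H')).1 h1.symm) (fun m hm γ => by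
    have H' : IsPullback (pullback.fst h (Spec.map (𝟙 A ≫ CommRingCat.ofHom (Ideal.Quotient.mk m))))
      (pullback.snd _ _) h (Spec.map (𝟙 A ≫ CommRingCat.ofHom (Ideal.Quotient.mk m))) :=
      IsPullback.of_hasPullback _ _
    let γ' : R.M →ₛₗ[(𝟙 A ≫ CommRingCat.ofHom (Ideal.Quotient.mk m)).hom]
        CommRingCat.of (A ⧸ m) :=
      { toFun := γ
        map_add' := map_add γ
        map_smul' := fun r x => by
          rw [map_smul]
          exact Algebra.smul_def r (γ x) }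
    let α' : R.M →ₛₗ[(𝟙 A ≫ CommRingCat.ofHom (Ideal.Quotient.mk m)).hom]
        CommRingCat.of (A ⧸ m) :=
      { toFun := fun x => Ideal.Quotient.mk m (α x)
        map_add' := fun x y => by rw [map_add, map_add]
        map_smul' := fun r x => by
          rw [LinearMap.map_smulₛₗ]
          exact map_mul (Ideal.Quotient.mk m) r (α x) }
    have h1 := key m hm α s hα _ _ _ H' α' (fun x => rfl)
    obtain ⟨c, hc⟩ := (hs m hm _ _ _ (by simpa using H')).2 (R.θ H' γ')
    refine ⟨c, fun x => ?_⟩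
    have h2 : R.θ H' γ' = R.θ H' (c • α') := by
      rw [R.smul, h1, hc]
      rfl
    have h3 := (R.bij H').1 h2
    exact LinearMap.congr_fun h3 x) (lin β)
  refine ⟨c, pullTop_id_injective ?_⟩
  have h4 : β = c • α := by
    ext x
    exact hc x
  rw [← hβ, h4, R.smul, hα, pullTop_smul]
  rfl

end K246.GenSec
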