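import Groth.Agent.Ega1.GenPts
import Groth.Agent.Sga4B.SmoothNormal
import Groth.Agent.Etcore.DimBaseChange
import Groth.Agent.S1536
import Groth.Agent.Pi1.H536.GenusFam
import Groth.Prelude.Def_ega3
import Groth.Prelude.Def_Curv2

/-!
# Field-valued fibres of a family of curves
-/

set_option autoImplicit false
universe u

open CategoryTheory CategoryTheory.Limits AlgebraicGeometry TopologicalSpace Opposite

namespace K246.GeoFib

/-- A connected smooth scheme over a field is integral. -/
theorem isIntegral_of_connected {k : Type u} [Field k] {X : Scheme.{u}}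
    (f : X ⟶ Spec (CommRingCat.of k)) [Smooth f] [ConnectedSpace X] : IsIntegral X := by
  have h1 : IsLocallyNoetherian X := LocallyOfFiniteType.isLocallyNoetherian f
  rw [Groth.Agent.Ega1.GenPts.isIntegral_iff]
  exact ⟨inferInstance, fun x => (Groth.Agent.Sga4B.SmoothNormal.isNormalScheme_of_smooth f x).1⟩

variable {C S : Scheme.{u}} (f : C ⟶ S) {k : Type u} [Field k]
  (t : Spec (CommRingCat.of k) ⟶ S) {W : Scheme.{u}} {g : W ⟶ C} {h : W ⟶ Spec (CommRingCat.of k)}
  (H : IsPullback g h f t)

include H in
theorem isIntegral_fibre [Smooth f] [GeometricallyConnected f] : IsIntegral W := by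
  have h1 : ConnectedSpace W := GeometricallyConnected.geometrically_connectedSpace _ _ _ H
  have h2 : Smooth h := MorphismProperty.of_isPullback H inferInstance
  exact isIntegral_of_connected h

include H in
theorem dim_fibre [LocallyOfFiniteType f] :
    topologicalKrullDim W = topologicalKrullDim (f.fiber (t (IsLocalRing.closedPoint k))) := by
  let s := t (IsLocalRing.closedPoint k)
  let φ : S.residueField s ⟶ CommRingCat.of k :=
    S.descResidueField (Scheme.stalkClosedPointTo t)
  have hφ : Spec.map φ ≫ S.fromSpecResidueField s = t :=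
    S.descResidueField_stalkClosedPointTo_fromSpecResidueField k t
  have hR : IsPullback (f.fiberι s) (f.fiberToSpecResidueField s) f (S.fromSpecResidueField s) :=
    IsPullback.of_hasPullback _ _
  let g' : W ⟶ f.fiber s := hR.lift g (h ≫ Spec.map φ) (by rw [Category.assoc, hφ, H.w])
  have hg1 : g' ≫ f.fiberι s = g := hR.lift_fst _ _ _
  have hg2 : g' ≫ f.fiberToSpecResidueField s = h ≫ Spec.map φ := hR.lift_snd _ _ _
  have hL : IsPullback g' h (f.fiberToSpecResidueField s) (Spec.map φ) := by
    refine IsPullback.of_right ?_ hg2 hR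
    rw [hg1, hφ]
    exact H
  have hlft : LocallyOfFiniteType (f.fiberToSpecResidueField s) :=
    MorphismProperty.of_isPullback (P := @LocallyOfFiniteType) hR inferInstance
  exact Groth.Agent.Etcore.DimBaseChange.topologicalKrullDim_eq
    (Field.toIsField (S.residueField s)) (Field.toIsField k)
    (f.fiberToSpecResidueField s) h g' (Spec.map φ) hL

theorem finrank_h1 [IsProper f] {W : Scheme.{u}} [W.Over (Spec (CommRingCat.of k))] {g : W ⟶ C}
    (H : IsPullback g (W ↘ Spec (CommRingCat.of k)) f t) (i : ℕ) :
    Module.finrank k (Coh.HH W (Coh.structureModule W) i) =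
      CohIII.fiberRank f (Coh.structureModule C) i (t (IsLocalRing.closedPoint k)) :=
  Groth.Agent.Pi1.H536.GenusFam.finrank_eq_betti f k t (IsLocalRing.closedPoint k) g H i

end K246.GeoFib
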