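import Groth.Agent.Dix.InterNum
import Groth.Agent.Dix.IdealModCartier
import Groth.Agent.Old.H24.LinearSeries

/-!
# The inverse of the ideal of a rational point of a curve of positive genus has one section
-/

set_option autoImplicit false
universe u

open CategoryTheory CategoryTheory.Limits AlgebraicGeometry TopologicalSpace Opposite
open Groth.Agent.Dix.InterNum Groth.Agent.CurvesB.HZero

namespace K246.PointDeg

variable (k : Type u) [Field k]

theorem h0_id : h0 (𝟙 (Spec (CommRingCat.of k))) = 1 := by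
  let m : Module k Γ(Spec (CommRingCat.of k), ⊤) :=
    Module.compHom Γ(Spec (CommRingCat.of k), ⊤) (glo (𝟙 (Spec (CommRingCat.of k))))
  have hg : ∀ a : k, glo (𝟙 (Spec (CommRingCat.of k))) a =
      (Scheme.ΓSpecIso (CommRingCat.of k)).inv a := by
    intro a
    change (𝟙 (Spec (CommRingCat.of k)) : Spec (CommRingCat.of k) ⟶ _).appTop.hom _ = _
    rw [Scheme.Hom.id_appTop]
    rfl
  let E : k ≃+* Γ(Spec (CommRingCat.of k), ⊤) :=
    (Scheme.ΓSpecIso (CommRingCat.of k)).symm.commRingCatIsoToRingEquiv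
  let e : k ≃ₗ[k] Γ(Spec (CommRingCat.of k), ⊤) :=
    { E.toAddEquiv with
      map_smul' := fun t x => by
        change E (t * x) = glo (𝟙 (Spec (CommRingCat.of k))) t * E x
        rw [map_mul, hg]
        rfl }
  have h := e.finrank_eq
  rw [Module.finrank_self] at h
  exact h.symm

variable {Y : Scheme.{u}} [Y.Over (Spec (CommRingCat.of k))] [IsIntegral Y]
  [IsProper (Y ↘ (Spec (CommRingCat.of k)))]

theorem deg_point (hdim : topologicalKrullDim Y = 1) (σ : Spec (CommRingCat.of k) ⟶ Y)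
    (hσ : σ ≫ (Y ↘ (Spec (CommRingCat.of k))) = 𝟙 _) [IsClosedImmersion σ]
    (L : Y.Modules) (hL : ClSub.IsInverseOf L (ClSub.idealMod σ.ker)) :
    Curv2.deg k Y L 1 = 1 := by
  rw [deg_of_effCartier k Y hdim _
    (Groth.Agent.Dix.IdealModCartier.isEffCartierIdeal_of_isInverseOf hL) _ hL, finrank_quotMod]
  have e : σ.ker.subscheme ≅ Spec (CommRingCat.of k) := (asIso σ.toImage).symm
  have h1 : h0 (σ.ker.subschemeι ≫ (Y ↘ (Spec (CommRingCat.of k)))) =
      h0 (𝟙 (Spec (CommRingCat.of k))) := by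
    refine h0_congr _ _ (asIso σ.toImage).symm ?_
    rw [Iso.symm_hom, asIso_inv, IsIso.inv_comp_eq]
    have : σ.toImage ≫ σ.ker.subschemeι = σ := σ.toImage_imageι
    rw [← Category.assoc, this, hσ]
  rw [h1, h0_id]
  rfl

/-- A line bundle of degree one with a nonzero section on a curve of positive genus. -/
theorem finrank_eq_one (hdim : topologicalKrullDim Y = 1)
    (h0 : Module.finrank k (Coh.HH Y (Coh.structureModule Y) 0) = 1)
    (hg : 1 ≤ Curv2.genus k Y) {L : Y.Modules} (hL : PicF.IsInvertible L)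
    (hdeg : Curv2.deg k Y L 1 = 1) {s : Γ(L, ⊤)} (hs : s ≠ 0) :
    Module.finrank k (Coh.HH Y L 0) = 1 := by
  have hnt : Nontrivial (Coh.HH Y L 0) :=
    ⟨⟨(equivAdd L).symm s, 0, fun h => hs (by
      rw [← (equivAdd L).apply_symm_apply s, h, map_zero])⟩⟩
  obtain ⟨h1, h2⟩ := Groth.Agent.Old.H24.LinearSeries.main k hdim.le h0 L hL hnt
  rw [hdeg] at h1 h2
  have h3 : Module.finrank k (Coh.HH Y L 0) ≠ 2 := by
    intro h4
    have := h2 (by rw [h4]; norm_num) one_pos
    omega
  have hfin : Module.Finite k (Coh.HH Y L 0) := Groth.Agent.Old.H24.LinearSeries.finite_H k hL 0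
  have h5 : 0 < Module.finrank k (Coh.HH Y L 0) := Module.finrank_pos
  have h6 : Module.finrank k (Coh.HH Y L 0) ≤ 2 := by exact_mod_cast h1
  omega

/-- Every section is a multiple of a nonzero one. -/
theorem exists_smul (hdim : topologicalKrullDim Y = 1)
    (h0 : Module.finrank k (Coh.HH Y (Coh.structureModule Y) 0) = 1)
    (hg : 1 ≤ Curv2.genus k Y) {L : Y.Modules} (hL : PicF.IsInvertible L)
    (hdeg : Curv2.deg k Y L 1 = 1) {s : Γ(L, ⊤)} (hs : s ≠ 0) (t : Γ(L, ⊤)) :
    ∃ c : k, t = gl k Y c • s := by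
  have h1 := finrank_eq_one k hdim h0 hg hL hdeg hs
  have hv : (equivAdd L).symm s ≠ 0 := fun h => hs (by
      rw [← (equivAdd L).apply_symm_apply s, h, map_zero])
  obtain ⟨c, hc⟩ := (finrank_eq_one_iff_of_nonzero' _ hv).1 h1 ((equivAdd L).symm t)
  refine ⟨c, ?_⟩
  have h2 := congrArg (equivAdd L) hc
  rw [equivAdd_smul_over, AddEquiv.apply_symm_apply, AddEquiv.apply_symm_apply] at h2
  exact h2.symm

end K246.PointDeg
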