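import Groth.Agent.PicF.K246.CanSec
import Groth.Agent.PicF.K246.GenSec
import Groth.Agent.PicF.K246.PointDeg
import Groth.Agent.PicF.K246.GeoFib
import Groth.Agent.Dix.InterSurf
import Groth.Agent.Ega2.QCohLocal
import Groth.Agent.PicF.K247.SmoothGI

/-!
# Uniqueness of the point `x` in the class of `O(x)` for curves of positive genus
-/

set_option autoImplicit false
universe u

open CategoryTheory CategoryTheory.Limits AlgebraicGeometry TopologicalSpace Opposite
open Groth.Agent.Fdesc.LocGen
open K246.CanSec K246.GenSec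

namespace K246.AbelMono

theorem pullTop_eq_zero_iff {X Z : Scheme.{u}} {D : X.IdealSheafData} {L : X.Modules} {s : Γ(L, ⊤)}
    (hs : IsCan D L s) (h : Z ⟶ X) : pullTop h s = 0 ↔ D ≤ h.ker :=
  pullSec_eq_zero_iff hs h

theorem pullTop_comp_eq_zero {X Y Z : Scheme.{u}} (f : X ⟶ Y) (g : Y ⟶ Z) {M : Z.Modules}
    (s : Γ(M, ⊤)) : pullTop (f ≫ g) s = 0 ↔ pullTop f (pullTop g s) = 0 := by
  have h1 : ((Scheme.Modules.pullbackComp f g).hom.app M).app ⊤ (pullTop f (pullTop g s)) =
      pullTop (f ≫ g) s := pullSec_comp' f g s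
  have h2 : ((Scheme.Modules.pullbackComp f g).inv.app M).app ⊤ (pullTop (f ≫ g) s) =
      pullTop f (pullTop g s) := pullSec_comp f g s
  constructor
  · intro h
    rw [← h2, h, map_zero]
  · intro h
    rw [← h1, h, map_zero]

variable {C S : Scheme.{u}} (f : C ⟶ S) [IsSeparated f]

/-- The zero scheme of the canonical section of the diagonal. -/
theorem eq_of_pullTop_eq_zero {L : (pullback f f).Modules} {s : Γ(L, ⊤)}
    (hs : IsCan (pullback.diagonal f).ker L s) {Z : Scheme.{u}} (h : Z ⟶ pullback f f)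
    (h0 : pullTop h s = 0) : h ≫ pullback.fst f f = h ≫ pullback.snd f f := by
  have h1 := (pullTop_eq_zero_iff hs h).1 h0
  have h2 := IsClosedImmersion.lift_fac (pullback.diagonal f) h h1
  have h3 : h ≫ pullback.fst f f = IsClosedImmersion.lift (pullback.diagonal f) h h1 := by
    conv_lhs => rw [← h2]
    rw [Category.assoc, pullback.diagonal_fst, Category.comp_id]
  have h4 : h ≫ pullback.snd f f = IsClosedImmersion.lift (pullback.diagonal f) h h1 := by
    conv_lhs => rw [← h2]
    rw [Category.assoc, pullback.diagonal_snd, Category.comp_id]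
  rw [h3, h4]

theorem pullTop_eq_zero_of_eq {L : (pullback f f).Modules} {s : Γ(L, ⊤)}
    (hs : IsCan (pullback.diagonal f).ker L s) {Z : Scheme.{u}} (h : Z ⟶ pullback f f)
    (h0 : h ≫ pullback.fst f f = h ≫ pullback.snd f f) : pullTop h s = 0 := by
  rw [pullTop_eq_zero_iff hs h]
  have h1 : h = (h ≫ pullback.fst f f) ≫ pullback.diagonal f := by
    apply pullback.hom_ext
    · simp
    · simp [h0]
  rw [h1]
  exact Scheme.Hom.le_ker_comp _ _

/-- The conditions on the fibre. -/
theorem fibre [IsProper f] [Smooth f] [GeometricallyConnected f]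
    (hdim : ∀ s : S, topologicalKrullDim ↥(f.fiber s) = 1)
    (hg : ∀ s : S, 1 ≤ CohIII.fiberRank f (Coh.structureModule C) 1 s)
    {L : (pullback f f).Modules} {s : Γ(L, ⊤)} (hs : IsCan (pullback.diagonal f).ker L s)
    (hΔ : ClSub.IsInverseOf L (ClSub.idealMod (pullback.diagonal f).ker))
    {k : Type u} [Field k] (x : Spec (CommRingCat.of k) ⟶ C) {W : Scheme.{u}}
    {g : W ⟶ C} {h : W ⟶ Spec (CommRingCat.of k)} (H : IsPullback g h f (x ≫ f))
    (γ : W ⟶ pullback f f) (h1 : γ ≫ pullback.fst f f = g) (h2 : γ ≫ pullback.snd f f = h ≫ x) :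
    pullTop γ s ≠ 0 ∧ ∀ u : Γ((Scheme.Modules.pullback γ).obj L, ⊤),
      ∃ c : CommRingCat.of k, u = gb h c • pullTop γ s := by
  let _ : W.Over (Spec (CommRingCat.of k)) := ⟨h⟩
  have hint : IsIntegral W := K246.GeoFib.isIntegral_fibre f (x ≫ f) H
  have hprop : IsProper (W ↘ Spec (CommRingCat.of k)) := MorphismProperty.of_isPullback H inferInstance
  have hd : topologicalKrullDim W = 1 := (K246.GeoFib.dim_fibre f (x ≫ f) H).trans (hdim _)
  have hgen : 1 ≤ Curv2.genus k W :=
    (hg _).trans_eq (K246.GeoFib.finrank_h1 f (x ≫ f) (W := W) H 1).symm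
  have hgc : GeometricallyConnected (W ↘ Spec (CommRingCat.of k)) :=
    MorphismProperty.of_isPullback H inferInstance
  have hsm : Smooth (W ↘ Spec (CommRingCat.of k)) := MorphismProperty.of_isPullback H inferInstance
  have hgi : GeometricallyIntegral (W ↘ Spec (CommRingCat.of k)) :=
    K247.SmoothGI.geometricallyIntegral _
  have hgr : GeometricallyReduced (W ↘ Spec (CommRingCat.of k)) := inferInstance
  have h0 : Module.finrank k (Coh.HH W (Coh.structureModule W) 0) = 1 :=
    Groth.Agent.S1536.result k W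
  -- the section
  let σ : Spec (CommRingCat.of k) ⟶ W := H.lift x (𝟙 _) (by simp)
  have hσ1 : σ ≫ g = x := H.lift_fst _ _ _
  have hσ2 : σ ≫ h = 𝟙 _ := H.lift_snd _ _ _
  have hσ3 : σ ≫ (W ↘ Spec (CommRingCat.of k)) = 𝟙 _ := hσ2
  have hnt : ¬ Subsingleton W := by
    intro hsub
    have h3 : topologicalKrullDim W ≤ 0 := by
      have : Subsingleton (IrreducibleCloseds W) := ⟨fun a b => by
        apply IrreducibleCloseds.ext
        obtain ⟨p, hp⟩ := a.2.nonempty
        obtain ⟨q, hq⟩ := b.2.nonempty
        ext r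
        constructor
        · intro _
          rw [Subsingleton.elim r q]
          exact hq
        · intro _
          rw [Subsingleton.elim r p]
          exact hp⟩
      exact Order.krullDim_nonpos_of_subsingleton
    rw [hd] at h3
    exact absurd h3 (by decide)
  -- no map through the section is the identity
  have hfac : ∀ r : W ⟶ Spec (CommRingCat.of k), 𝟙 W ≠ r ≫ σ := by
    intro r hr
    apply hnt
    constructor
    intro p q
    have h4 : ∀ p : W, p = σ (r p) := fun p => by
      have h5 : (𝟙 W : W ⟶ W) p = (r ≫ σ : W ⟶ W) p := by rw [← hr]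
      simpa using h5
    rw [h4 p, h4 q]
    congr 1
    exact Subsingleton.elim _ _
  have hne : pullTop γ s ≠ 0 := by
    intro hcon
    have h3 := eq_of_pullTop_eq_zero f hs γ hcon
    rw [h1, h2] at h3
    refine hfac h (H.hom_ext ?_ ?_)
    · rw [Category.id_comp, Category.assoc, hσ1, h3]
    · rw [Category.id_comp, Category.assoc, hσ2, Category.comp_id]
  refine ⟨hne, ?_⟩
  have hσγ : σ ≫ γ = x ≫ pullback.diagonal f := by
    apply pullback.hom_ext
    · rw [Category.assoc, h1, hσ1]; simp
    · rw [Category.assoc, h2, reassoc_of% hσ2]; simp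
  have hpb : IsPullback σ x γ (pullback.diagonal f) := by
    refine ⟨⟨hσγ⟩, ⟨PullbackCone.IsLimit.mk _ (fun c => c.fst ≫ h) ?_ ?_ ?_⟩⟩
    · intro c
      have h3 : c.fst ≫ g = c.snd := by
        have := congr($(c.condition) ≫ pullback.fst f f)
        simpa [h1] using this
      have h4 : c.fst ≫ h ≫ x = c.snd := by
        have := congr($(c.condition) ≫ pullback.snd f f)
        simpa [h2] using this
      refine H.hom_ext ?_ ?_
      · rw [Category.assoc, Category.assoc, hσ1, h4, h3]
      · rw [Category.assoc, Category.assoc, hσ2, Category.comp_id]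
    · intro c
      have h4 : c.fst ≫ h ≫ x = c.snd := by
        have := congr($(c.condition) ≫ pullback.snd f f)
        simpa [h2] using this
      rw [Category.assoc, h4]
    · intro c m hm1 hm2
      rw [← hm1, Category.assoc, hσ2, Category.comp_id]
  have hci : IsClosedImmersion σ := MorphismProperty.of_isPullback hpb.flip inferInstance
  have hker : σ.ker = (pullback.diagonal f).ker.comap γ := by
    rw [← Scheme.IdealSheafData.ker_fst_of_isClosedImmersion (pullback.diagonal f) γ,
      ← hpb.isoPullback_hom_fst, Scheme.Hom.ker_comp_of_isIso]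
  have hD : BlowUp.IsEffCartierIdeal (pullback.diagonal f).ker :=
    Groth.Agent.Dix.IdealModCartier.isEffCartierIdeal_of_isInverseOf hΔ
  have hη : γ (genericPoint W) ∉ (pullback.diagonal f).ker.support := by
    intro hmem
    have h5 : genericPoint W ∈ ((pullback.diagonal f).ker.comap γ).support := by
      rw [← SetLike.mem_coe, Scheme.IdealSheafData.support_comap]
      exact hmem
    rw [← hker, ← SetLike.mem_coe, Scheme.Hom.support_ker] at h5
    have h6 : closure (Set.range σ) = Set.range σ := σ.isClosedEmbedding.isClosed_range.closure_eq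
    have h7 : genericPoint W ∈ Set.range σ := by
      rw [← h6]
      exact h5
    have h8 : Set.range σ = Set.univ := by
      rw [← h6]
      refine Set.eq_univ_of_univ_subset ?_
      rw [← (genericPoint_spec W).def]
      exact closure_mono (Set.singleton_subset_iff.2 h7)
    apply hnt
    constructor
    intro p q
    obtain ⟨p', rfl⟩ : p ∈ Set.range σ := by rw [h8]; trivial
    obtain ⟨q', rfl⟩ : q ∈ Set.range σ := by rw [h8]; trivial
    congr 1
    exact Subsingleton.elim _ _
  have hD' := Groth.Agent.Dix.InterSurf.isEff_comap_of_generic γ hD hη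
  obtain ⟨e⟩ := Groth.Agent.Dix.IdealModCartier.pullback_idealMod γ hD hD'
  have hinv : ClSub.IsInverseOf ((Scheme.Modules.pullback γ).obj L)
      (ClSub.idealMod ((pullback.diagonal f).ker.comap γ)) :=
    Groth.Agent.Dix.InterSurf.isInverseOf_congr
      (Groth.Agent.Dix.InterSurf.isInverseOf_pullback γ hΔ) e
  rw [← hker] at hinv
  have hdeg := K246.PointDeg.deg_point k hd σ hσ3 _ hinv
  have hL : PicF.IsInvertible ((Scheme.Modules.pullback γ).obj L) :=
    (Groth.Agent.Dix.IdealModCartier.isInvertible_of_isInverseOf hinv).1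
  intro u
  exact K246.PointDeg.exists_smul k hd h0 hgen hL hdeg hne u

/-- Two points with isomorphic line bundles are equal. -/
theorem eq_of_iso [IsProper f] [Smooth f] [GeometricallyConnected f]
    (hdim : ∀ s : S, topologicalKrullDim ↥(f.fiber s) = 1)
    (hg : ∀ s : S, 1 ≤ CohIII.fiberRank f (Coh.structureModule C) 1 s)
    {L : (pullback f f).Modules} (hL : PicF.IsInvertible L)
    (hΔ : ClSub.IsInverseOf L (ClSub.idealMod (pullback.diagonal f).ker))
    {A : CommRingCat.{u}} (x y : Spec A ⟶ C) {W : Scheme.{u}} {g : W ⟶ C} {h : W ⟶ Spec A}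
    (H : IsPullback g h f (x ≫ f)) (hxy : x ≫ f = y ≫ f)
    (γ : W ⟶ pullback f f) (h1 : γ ≫ pullback.fst f f = g) (h2 : γ ≫ pullback.snd f f = h ≫ x)
    (δ : W ⟶ pullback f f) (h3 : δ ≫ pullback.fst f f = g) (h4 : δ ≫ pullback.snd f f = h ≫ y)
    (e : (Scheme.Modules.pullback γ).obj L ≅ (Scheme.Modules.pullback δ).obj L) : x = y := by
  obtain ⟨s, hs⟩ := exists_isCan hΔ
  have hpr : IsProper h := MorphismProperty.of_isPullback H inferInstance
  have hfl : Flat h := MorphismProperty.of_isPullback H inferInstance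
  have hfp : LocallyOfFinitePresentation h := MorphismProperty.of_isPullback H inferInstance
  have hLγ : PicF.IsInvertible ((Scheme.Modules.pullback γ).obj L) :=
    Groth.Agent.Fdesc.LocGen.isInvertible_pullback γ hL
  obtain ⟨c, hc⟩ := K246.GenSec.exists_smul h
    (Groth.Agent.Ega2.QCohLocal.isFinLocFree_of_rank
      (Groth.Agent.Ega2.QCohLocal.isFinLocFreeOfRank_one_iff.2 hLγ)) (pullTop γ s)
    (fun m hm W' a h' H' => by
      let _ : Field (A ⧸ m) := Ideal.Quotient.field m
      have H'' : IsPullback (a ≫ g) h' f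
          ((Spec.map (CommRingCat.ofHom (Ideal.Quotient.mk m)) ≫ x) ≫ f) := by
        rw [Category.assoc]
        exact H'.paste_horiz H
      obtain ⟨h5, h6⟩ := fibre f hdim hg hs hΔ (k := A ⧸ m)
        (Spec.map (CommRingCat.ofHom (Ideal.Quotient.mk m)) ≫ x) H'' (a ≫ γ)
        (by rw [Category.assoc, h1]) (by rw [Category.assoc, h2, reassoc_of% H'.w])
      constructor
      · intro h7
        exact h5 ((pullTop_comp_eq_zero a γ s).2 h7)
      · intro u
        -- transport along the comparison isomorphism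
        let c₁ := ((Scheme.Modules.pullbackComp a γ).hom.app L).app ⊤
        let c₂ := ((Scheme.Modules.pullbackComp a γ).inv.app L).app ⊤
        obtain ⟨c, hc⟩ := h6 (((Scheme.Modules.pullbackComp a γ).hom.app L).app ⊤ u)
        refine ⟨c, ?_⟩
        have h8 : ((Scheme.Modules.pullbackComp a γ).inv.app L).app ⊤
            (((Scheme.Modules.pullbackComp a γ).hom.app L).app ⊤ u) = u := by
          have : (Scheme.Modules.pullbackComp a γ).hom.app L ≫
              (Scheme.Modules.pullbackComp a γ).inv.app L = 𝟙 _ := by simp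
          exact congr(($(this).app ⊤) u)
        have h9 : ((Scheme.Modules.pullbackComp a γ).inv.app L).app ⊤ (pullTop (a ≫ γ) s) =
          pullTop a (pullTop γ s) := pullSec_comp a γ s
        rw [← h8, hc, Scheme.Modules.Hom.app_smul, h9])
    (e.inv.app ⊤ (pullTop δ s))
  have hc' : pullTop δ s = gb h c • e.hom.app ⊤ (pullTop γ s) := by
    have h5 : e.hom.app ⊤ (e.inv.app ⊤ (pullTop δ s)) = pullTop δ s :=
      congr(($(e.inv_hom_id).app ⊤) (pullTop δ s))
    rw [← h5, hc, Scheme.Modules.Hom.app_smul]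
  let σ : Spec A ⟶ W := H.lift x (𝟙 _) (by simp)
  have hσ1 : σ ≫ g = x := H.lift_fst _ _ _
  have hσ2 : σ ≫ h = 𝟙 _ := H.lift_snd _ _ _
  have h6 : pullTop σ (pullTop γ s) = 0 := by
    rw [← pullTop_comp_eq_zero]
    refine pullTop_eq_zero_of_eq f hs _ ?_
    rw [Category.assoc, Category.assoc, h1, h2, hσ1, reassoc_of% hσ2]
  have h7 : pullTop (σ ≫ δ) s = 0 := by
    rw [pullTop_comp_eq_zero, hc', pullTop_smul]
    have h8 : pullTop σ (e.hom.app ⊤ (pullTop γ s)) =
        ((Scheme.Modules.pullback σ).map e.hom).app ⊤ (pullTop σ (pullTop γ s)) :=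
      (pullback_map_pullSec σ e.hom (pullTop γ s)).symm
    rw [h8, h6, map_zero, smul_zero]
  have h8 := eq_of_pullTop_eq_zero f hs _ h7
  rw [Category.assoc, Category.assoc, h3, h4, hσ1, reassoc_of% hσ2] at h8
  exact h8

end K246.AbelMono
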