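import Groth.Agent.PicF.K246.FlatPrinc
import Groth.Agent.Fga.SmoothDVRAlg
import Groth.Agent.Ega43.DvrDomination
import Groth.Agent.S2821
import Mathlib.AlgebraicGeometry.PullbackCarrier
import Mathlib.RingTheory.Flat.TorsionFree
import Mathlib.LinearAlgebra.TensorProduct.RightExactness

/-!
# Ideals of smooth algebras over Noetherian domains with flat quotient
-/

set_option autoImplicit false
universe u

open TensorProduct AlgebraicGeometry CategoryTheory CategoryTheory.Limits

namespace K246.DvrPrinc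

open K246.UfdPrinc

lemma exists_prime_tensor {R A B : Type u} [CommRing R] [CommRing A] [CommRing B] [Algebra R A]
    [Algebra R B] (q : PrimeSpectrum A) (t : PrimeSpectrum B)
    (h : q.comap (algebraMap R A) = t.comap (algebraMap R B)) :
    ∃ r : PrimeSpectrum (A ⊗[R] B), r.comap Algebra.TensorProduct.includeLeftRingHom = q ∧
      r.comap (Algebra.TensorProduct.includeRight (R := R) (A := A) (B := B)).toRingHom = t := by
  obtain ⟨z, hz1, hz2⟩ := Scheme.Pullback.exists_preimage_pullback
    (f := Spec.map (CommRingCat.ofHom (algebraMap R A)))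
    (g := Spec.map (CommRingCat.ofHom (algebraMap R B))) q t (by exact h)
  refine ⟨(pullbackSpecIso R A B).hom z, ?_, ?_⟩
  · have : (Spec.map (CommRingCat.ofHom
      (Algebra.TensorProduct.includeLeftRingHom (R := R) (A := A) (B := B))))
      ((pullbackSpecIso R A B).hom z) = q := by
      rw [← hz1, ← pullbackSpecIso_inv_fst, ← Scheme.Hom.comp_apply]
      simp
    exact this
  · have : (Spec.map (CommRingCat.ofHom (RingHomClass.toRingHom
      (Algebra.TensorProduct.includeRight (R := R) (A := A) (B := B)))))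
      ((pullbackSpecIso R A B).hom z) = t := by
      rw [← hz2, ← pullbackSpecIso_inv_snd, ← Scheme.Hom.comp_apply]
      simp
    exact this

/-- A principal ideal of a local ring generated by a set is generated by an element of the set. -/
theorem exists_gen_mem {O : Type*} [CommRing O] [IsLocalRing O] {s : Set O}
    (hs : s.Nonempty) {b : O} (h : Ideal.span s = Ideal.span {b}) : ∃ j ∈ s, ∀ n ∈ s, j ∣ n := by
  by_contra hcon
  push Not at hcon
  have h1 : Ideal.span s ≤ Ideal.span {b} * IsLocalRing.maximalIdeal O := by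
    rw [Ideal.span_le]
    intro j hj
    obtain ⟨n, hn, hjn⟩ := hcon j hj
    obtain ⟨c, hc⟩ := Ideal.mem_span_singleton'.1 (h ▸ Ideal.subset_span hj : j ∈ Ideal.span {b})
    obtain ⟨d, hd⟩ := Ideal.mem_span_singleton'.1 (h ▸ Ideal.subset_span hn : n ∈ Ideal.span {b})
    have hcm : c ∈ IsLocalRing.maximalIdeal O := by
      rw [IsLocalRing.mem_maximalIdeal, mem_nonunits_iff]
      rintro ⟨u, rfl⟩
      apply hjn
      refine ⟨↑u⁻¹ * d, ?_⟩
      rw [← hd, ← hc]
      calc d * b = (↑u * ↑u⁻¹) * (d * b) := by rw [Units.mul_inv, one_mul]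
        _ = _ := by ring
    have h5 := Ideal.mul_mem_mul (Ideal.mem_span_singleton_self b) hcm
    rwa [mul_comm b c, hc] at h5
  have h2 : b ∈ Ideal.span {b} * IsLocalRing.maximalIdeal O :=
    h1 (h ▸ Ideal.mem_span_singleton_self b)
  rw [Ideal.mem_span_singleton_mul] at h2
  obtain ⟨z, hz, hbz⟩ := h2
  have h3 : b * (1 - z) = 0 := by rw [mul_sub, hbz, mul_one, sub_self]
  have h4 : IsUnit (1 - z) := by
    rcases IsLocalRing.isUnit_or_isUnit_one_sub_self z with h4 | h4
    · exact absurd h4 ((IsLocalRing.mem_maximalIdeal z).1 hz)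
    · exact h4
  have hb : b = 0 := by
    obtain ⟨u, hu⟩ := h4
    rw [← hu] at h3
    have := congrArg (· * (↑u⁻¹ : O)) h3
    simpa [mul_assoc] using this
  obtain ⟨j, hj⟩ := hs
  obtain ⟨n, hn, hjn⟩ := hcon j hj
  apply hjn
  have h5 : n ∈ Ideal.span {b} := h ▸ Ideal.subset_span hn
  rw [hb] at h5
  rw [show n = 0 by simpa using h5]
  exact dvd_zero j

/-- Principality at a prime is preserved under extension of rings. -/
theorem princAt_map {B' B : Type*} [CommRing B'] [CommRing B] (f : B' →+* B) {J' : Ideal B'}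
    {P : Ideal B} [hP : P.IsPrime] (h : PrincAt J' (P.comap f)) : PrincAt (J'.map f) P := by
  obtain ⟨c, hcJ, hc⟩ := h
  refine ⟨f c, Ideal.mem_map_of_mem f hcJ, ?_⟩
  intro b hb
  refine Submodule.span_induction (p := fun b _ => ∃ s, s ∉ P ∧ ∃ u, s * b = u * f c)
    ?_ ?_ ?_ ?_ hb
  · rintro _ ⟨b, hb, rfl⟩
    obtain ⟨s, hs, u, hu⟩ := hc b hb
    exact ⟨f s, hs, f u, by rw [← map_mul, hu, map_mul]⟩
  · exact ⟨1, (Ideal.ne_top_iff_one P).1 hP.ne_top, 0, by simp⟩
  · rintro x y _ _ ⟨s, hs, u, hu⟩ ⟨t, ht, v, hv⟩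
    refine ⟨s * t, fun h => (hP.mem_or_mem h).elim hs ht, t * u + s * v, ?_⟩
    linear_combination t * hu + s * hv
  · rintro a x _ ⟨s, hs, u, hu⟩
    refine ⟨s, hs, a * u, ?_⟩
    rw [smul_eq_mul]
    linear_combination a * hu

section DVR

variable {S D B : Type u} [CommRing S] [CommRing D] [CommRing B] [IsDomain D]
  [IsDiscreteValuationRing D] [Algebra S D] [Algebra S B]

theorem princAt_of_dvr (hinj : Function.Injective (algebraMap S D)) [Algebra.Smooth S B]
    (J : Ideal B) (hJ : J.FG)
    [Module.Flat S (B ⧸ J)] (Q : Ideal (D ⊗[S] B)) [hQ : Q.IsPrime]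
    (hgen : ∀ q' : Ideal B, q'.IsPrime → q'.comap (algebraMap S B) = ⊥ → PrincAt J q') :
    PrincAt J (Q.comap (Algebra.TensorProduct.includeRight : B →ₐ[S] D ⊗[S] B).toRingHom) := by
  let G := D ⊗[S] B
  let O := Localization.AtPrime Q
  let ι : B →+* G := (Algebra.TensorProduct.includeRight : B →ₐ[S] D ⊗[S] B).toRingHom
  have hreg : IsRegularLocalRing O :=
    Groth.Agent.Fga.SmoothDVRAlg.isRegularLocalRing_of_smooth (V := D) (A := D ⊗[S] B) Q
  have hdom : IsDomain O := (Groth.Agent.S2821.result O).1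
  have hufd : UniqueFactorizationMonoid O := (Groth.Agent.S2821.result O).2
  let ψ : B →+* O := (algebraMap G O).comp ι
  let I : Ideal O := J.map ψ
  obtain ⟨ϖ, hϖ⟩ := IsDiscreteValuationRing.exists_irreducible D
  let π : G := algebraMap D G ϖ
  -- flatness of the quotient
  have hflat : Module.Flat D (D ⊗[S] (B ⧸ J)) := inferInstance
  let θ : D ⊗[S] B →ₐ[S] D ⊗[S] (B ⧸ J) :=
    Algebra.TensorProduct.map (AlgHom.id S D) (Ideal.Quotient.mkₐ S J)
  have hθ : RingHom.ker θ = J.map ι := by
    have h1 := Algebra.TensorProduct.lTensor_ker (A := D) (g := Ideal.Quotient.mkₐ S J)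
      (Ideal.Quotient.mkₐ_surjective S J)
    have hk : RingHom.ker (Ideal.Quotient.mkₐ S J) = J := by
      ext x
      simp [RingHom.mem_ker, Ideal.Quotient.eq_zero_iff_mem]
    rw [hk] at h1
    exact h1
  have hθs : ∀ (d : D) (x : G), θ (algebraMap D G d * x) = d • θ x := by
    intro d x
    rw [map_mul]
    change θ (d ⊗ₜ 1) * _ = _
    rw [Algebra.TensorProduct.map_tmul, map_one, AlgHom.id_apply]
    exact (Algebra.smul_def d (θ x)).symm
  have htorG : ∀ x : G, π * x ∈ J.map ι → x ∈ J.map ι := by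
    intro x hx
    rw [← hθ, RingHom.mem_ker] at hx ⊢
    have h1 : ϖ • θ x = ϖ • (0 : D ⊗[S] (B ⧸ J)) := by
      rw [smul_zero, ← hθs]
      exact hx
    exact Module.Flat.isSMulRegular_of_nonZeroDivisors
      (mem_nonZeroDivisors_of_ne_zero hϖ.ne_zero) h1
  have htor : ∀ x : O, algebraMap G O π * x ∈ I → x ∈ I := by
    intro x hx
    obtain ⟨g, w, rfl⟩ := IsLocalization.exists_mk'_eq Q.primeCompl x
    have hI : I = (J.map ι).map (algebraMap G O) := (Ideal.map_map ι (algebraMap G O)).symm
    rw [hI] at hx ⊢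
    have h1 : algebraMap G O (π * g) ∈ (J.map ι).map (algebraMap G O) := by
      have h2 := Ideal.mul_mem_right (algebraMap G O w) _ hx
      rwa [mul_assoc, IsLocalization.mk'_spec, ← map_mul] at h2
    rw [IsLocalization.algebraMap_mem_map_algebraMap_iff Q.primeCompl] at h1
    obtain ⟨m, hm, hm'⟩ := h1
    have h3 : m * g ∈ J.map ι := htorG _ (by rw [mul_left_comm]; exact hm')
    have h4 : algebraMap G O g ∈ (J.map ι).map (algebraMap G O) :=
      (IsLocalization.algebraMap_mem_map_algebraMap_iff Q.primeCompl _ _ _).2 ⟨m, hm, h3⟩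
    have h5 : IsLocalization.mk' O g w = algebraMap G O g * IsLocalization.mk' O 1 w := by
      rw [← IsLocalization.mk'_one (M := Q.primeCompl) O g, ← IsLocalization.mk'_mul, mul_one,
        one_mul]
    rw [h5]
    exact Ideal.mul_mem_right _ _ h4
  have hlp : ∀ P : Ideal O, P.IsPrime → algebraMap G O π ∉ P → PrincAt I P := by
    intro P hP hπ
    have hPD : P.comap (algebraMap D O) = ⊥ := by
      by_contra hne
      have h1 : ϖ ∈ P.comap (algebraMap D O) := by
        have h2 : P.comap (algebraMap D O) = IsLocalRing.maximalIdeal D :=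
          IsLocalRing.eq_maximalIdeal
            ((Ideal.IsPrime.comap (algebraMap D O)).isMaximal hne)
        rw [h2, hϖ.maximalIdeal_eq]
        exact Ideal.mem_span_singleton_self _
      exact hπ h1
    have hPB : (P.comap ψ).comap (algebraMap S B) = ⊥ := by
      rw [eq_bot_iff]
      intro r hr
      have h1 : algebraMap S D r ∈ P.comap (algebraMap D O) := by
        have h2 : ψ (algebraMap S B r) = algebraMap D O (algebraMap S D r) := by
          change algebraMap G O (1 ⊗ₜ algebraMap S B r) = algebraMap G O (algebraMap S D r ⊗ₜ 1)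
          rw [Algebra.algebraMap_eq_smul_one (A := B), Algebra.algebraMap_eq_smul_one (A := D),
            TensorProduct.smul_tmul]
        rw [Ideal.mem_comap, ← h2]
        exact hr
      rw [hPD, Ideal.mem_bot] at h1
      exact hinj (by rw [h1, map_zero])
    exact princAt_map ψ (hgen (P.comap ψ) inferInstance hPB)
  obtain ⟨b, hb⟩ := exists_eq_span (algebraMap G O π) I htor hlp
  obtain ⟨_, ⟨j, hj, rfl⟩, hdvd⟩ := exists_gen_mem (s := ψ '' J)
    (Set.Nonempty.image _ ⟨0, J.zero_mem⟩) (b := b) hb
  refine K246.FlatPrinc.princAt J hJ Q hj fun n hn => ?_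
  obtain ⟨v, hv⟩ := hdvd (ψ n) ⟨n, hn, rfl⟩
  obtain ⟨g, w, rfl⟩ := IsLocalization.exists_mk'_eq Q.primeCompl v
  have h6 : algebraMap G O (w * ι n) = algebraMap G O (g * ι j) := by
    rw [map_mul, map_mul]
    change algebraMap G O w * ψ n = _ * ψ j
    rw [hv, mul_left_comm, mul_comm (algebraMap G O w), IsLocalization.mk'_spec, mul_comm]
  obtain ⟨m, hm⟩ := (IsLocalization.eq_iff_exists Q.primeCompl O).1 h6
  refine ⟨m * w, fun h => (hQ.mem_or_mem h).elim m.2 w.2, m * g, ?_⟩
  rw [mul_assoc, mul_assoc]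
  exact hm

end DVR

/-- **Key local statement.** `S` a Noetherian domain, `B` smooth over `S`, `J` an ideal of `B` with
`B/J` flat over `S` and which is principal at all primes over the generic point of `S`: then `J` is
principal at all primes. -/
theorem princAt_of_noetherian {S B : Type u} [CommRing S] [IsDomain S] [IsNoetherianRing S]
    [CommRing B] [Algebra S B] [Algebra.Smooth S B] (J : Ideal B) (hJ : J.FG)
    [Module.Flat S (B ⧸ J)]
    (hgen : ∀ q' : Ideal B, q'.IsPrime → q'.comap (algebraMap S B) = ⊥ → PrincAt J q')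
    (q : Ideal B) [hq : q.IsPrime] : PrincAt J q := by
  by_cases hp : q.comap (algebraMap S B) = ⊥
  · exact hgen q hq hp
  set p := q.comap (algebraMap S B) with hpdef
  let Sp := Localization.AtPrime p
  let L := FractionRing Sp
  have hnf : ¬ IsField Sp := by
    intro hf
    apply hp
    rw [eq_bot_iff]
    intro r hr
    by_contra hr0
    have hr0' : r ≠ 0 := hr0
    have h1 : algebraMap S Sp r ≠ 0 := by
      intro h
      exact hr0' ((IsLocalization.injective Sp p.primeCompl_le_nonZeroDivisors) (by rw [h, map_zero]))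
    obtain ⟨v, hv⟩ := hf.mul_inv_cancel h1
    have h2 : IsUnit (algebraMap S Sp r) := IsUnit.of_mul_eq_one v hv
    rw [IsLocalization.AtPrime.isUnit_to_map_iff Sp p] at h2
    exact h2 hr
  have hinjL : Function.Injective (algebraMap Sp L) := IsFractionRing.injective Sp L
  obtain ⟨W, hW, hmem, hnon⟩ := Groth.Agent.Ega43.DvrDomination.exists_dvr_dominating Sp hnf L hinjL
  let φ : S →+* W := ((algebraMap Sp L).codRestrict W.toSubring hmem).comp (algebraMap S Sp)
  let _ : Algebra S W := φ.toAlgebra
  have hφinj : Function.Injective (algebraMap S W) := by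
    intro a b hab
    have h1 := congrArg Subtype.val hab
    exact IsLocalization.injective Sp p.primeCompl_le_nonZeroDivisors (hinjL h1)
  have hφp : (IsLocalRing.maximalIdeal W).comap (algebraMap S W) = p := by
    ext r
    constructor
    · intro hr
      by_contra hrp
      have h1 : IsUnit (algebraMap S Sp r) := (IsLocalization.AtPrime.isUnit_to_map_iff Sp p r).2 hrp
      have h2 : IsUnit (algebraMap S W r) :=
        h1.map ((algebraMap Sp L).codRestrict W.toSubring hmem)
      exact (IsLocalRing.mem_maximalIdeal _).1 hr h2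
    · intro hr
      have h1 : algebraMap S Sp r ∈ IsLocalRing.maximalIdeal Sp :=
        (IsLocalization.AtPrime.to_map_mem_maximal_iff Sp p r).2 hr
      have h2 := hnon _ h1
      rw [ValuationSubring.mem_nonunits_iff_exists_mem_maximalIdeal] at h2
      obtain ⟨h3, h4⟩ := h2
      exact h4
  obtain ⟨Q, hQ1, hQ2⟩ := exists_prime_tensor (R := S) (A := W) (B := B)
    ⟨IsLocalRing.maximalIdeal W, inferInstance⟩ ⟨q, hq⟩ (by
      ext1
      exact hφp)
  have h5 := princAt_of_dvr (S := S) (D := W) (B := B) hφinj J hJ Q.asIdeal hgen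
  have h6 : Q.asIdeal.comap (Algebra.TensorProduct.includeRight : B →ₐ[S] W ⊗[S] B).toRingHom =
    q := congrArg PrimeSpectrum.asIdeal hQ2
  rwa [h6] at h5

end K246.DvrPrinc
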