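import Groth.Agent.PicF.K246.ValPrinc
import Groth.Agent.LoccohA.OmPoly
import Groth.Agent.Divis.IdealComap
import Groth.Agent.Divis.CartierBasic
import Mathlib.AlgebraicGeometry.Morphisms.Smooth

/-!
# Extension of effective Cartier divisors over valuation rings
-/

set_option autoImplicit false
universe u

open CategoryTheory CategoryTheory.Limits AlgebraicGeometry TopologicalSpace Opposite

namespace K246.ExtIdeal

open K246.UfdPrinc K246.DvrPrinc

section Alg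

theorem princAt_of_map {B O : Type*} [CommRing B] [CommRing O] [IsLocalRing O] [Algebra B O]
    (J q : Ideal B) [hq : q.IsPrime] [IsLocalization.AtPrime O q] {t : O}
    (h : J.map (algebraMap B O) = Ideal.span {t}) : PrincAt J q := by
  obtain ⟨_, ⟨c, hc, rfl⟩, hdvd⟩ := exists_gen_mem (s := algebraMap B O '' J)
    ⟨_, 0, J.zero_mem, rfl⟩ h
  refine ⟨c, hc, fun b hb => ?_⟩
  obtain ⟨w, hw⟩ := hdvd _ ⟨b, hb, rfl⟩
  obtain ⟨u, s, rfl⟩ := IsLocalization.exists_mk'_eq q.primeCompl w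
  have h1 : algebraMap B O (s * b) = algebraMap B O (u * c) := by
    rw [map_mul, hw, mul_left_comm, mul_comm (algebraMap B O (s : B)), IsLocalization.mk'_spec,
      map_mul, mul_comm]
  obtain ⟨m, hm⟩ := (IsLocalization.eq_iff_exists q.primeCompl O).1 h1
  refine ⟨m * s, fun h => (hq.mem_or_mem h).elim m.2 s.2, m * u, ?_⟩
  rw [mul_assoc, mul_assoc]
  exact hm

theorem princAt_comap {R B C : Type u} [CommRing R] [IsDomain R] [ValuationRing R] [CommRing B]
    [Algebra R B] [Algebra.Smooth R B] [CommRing C] [Algebra B C]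
    [IsLocalization (Algebra.algebraMapSubmonoid B (nonZeroDivisors R)) C] (I : Ideal C)
    (hI : ∀ Q : Ideal C, Q.IsPrime → PrincAt I Q) :
    (I.comap (algebraMap B C)).FG ∧
      ∀ q : Ideal B, q.IsPrime → PrincAt (I.comap (algebraMap B C)) q := by
  have hM : ∀ r : R, r ≠ 0 → algebraMap R B r ∈ Algebra.algebraMapSubmonoid B (nonZeroDivisors R) :=
    fun r hr => ⟨r, mem_nonZeroDivisors_of_ne_zero hr, rfl⟩
  obtain ⟨hfl, hfg⟩ := K246.ValPrinc.fg_of_saturated (R := R) (I.comap (algebraMap B C))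
    (fun r hr b hb => by
      rw [Ideal.mem_comap, map_mul, Ideal.unit_mul_mem_iff_mem _
        (IsLocalization.map_units C (⟨_, hM r hr⟩ :
          Algebra.algebraMapSubmonoid B (nonZeroDivisors R)))] at hb
      exact hb)
  refine ⟨hfg, fun q hq => K246.ValPrinc.princAt_of_flat (R := R) _ hfg (fun q' hq' h0 => ?_) q⟩
  have hdisj : Disjoint (Algebra.algebraMapSubmonoid B (nonZeroDivisors R) : Set B) q' := by
    rw [Set.disjoint_left]
    rintro _ ⟨r, hr, rfl⟩ hrq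
    have h1 : r ∈ q'.comap (algebraMap R B) := hrq
    rw [h0] at h1
    exact nonZeroDivisors.ne_zero hr h1
  have hQ : (q'.map (algebraMap B C)).IsPrime := IsLocalization.isPrime_of_isPrime_disjoint
    (Algebra.algebraMapSubmonoid B (nonZeroDivisors R)) C q' hq' hdisj
  obtain ⟨c, hc, hc'⟩ := hI _ hQ
  obtain ⟨⟨c₀, m⟩, hm⟩ := IsLocalization.surj
    (Algebra.algebraMapSubmonoid B (nonZeroDivisors R)) c
  dsimp only at hm
  refine ⟨c₀, ?_, fun b hb => ?_⟩
  · rw [Ideal.mem_comap, ← hm]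
    exact I.mul_mem_right _ hc
  obtain ⟨s, hs, u, hu⟩ := hc' _ hb
  obtain ⟨⟨s₀, m₁⟩, hm₁⟩ := IsLocalization.surj
    (Algebra.algebraMapSubmonoid B (nonZeroDivisors R)) s
  obtain ⟨⟨u₀, m₂⟩, hm₂⟩ := IsLocalization.surj
    (Algebra.algebraMapSubmonoid B (nonZeroDivisors R)) u
  dsimp only at hm₁ hm₂
  have h1 : algebraMap B C (m₂ * m * s₀ * b) = algebraMap B C (m₁ * u₀ * c₀) := by
    simp only [map_mul]
    rw [← hm, ← hm₁, ← hm₂]
    linear_combination (algebraMap B C m₁ * algebraMap B C m₂ * algebraMap B C m) * hu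
  obtain ⟨m₃, hm₃⟩ := (IsLocalization.eq_iff_exists
    (Algebra.algebraMapSubmonoid B (nonZeroDivisors R)) C).1 h1
  have hMq : ∀ m : Algebra.algebraMapSubmonoid B (nonZeroDivisors R), (m : B) ∉ q' :=
    fun m hm => Set.disjoint_left.1 hdisj m.2 hm
  have hs₀ : s₀ ∉ q' := by
    intro hs₀
    have h2 : algebraMap B C s₀ ∈ q'.map (algebraMap B C) := Ideal.mem_map_of_mem _ hs₀
    rw [← hm₁] at h2
    exact hs ((Ideal.mul_unit_mem_iff_mem _ (IsLocalization.map_units C m₁)).1 h2)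
  refine ⟨m₃ * (m₂ * m * s₀), fun hmem => ?_, m₃ * (m₁ * u₀), ?_⟩
  · rcases hq'.mem_or_mem hmem with h | h
    · exact hMq _ h
    · rcases hq'.mem_or_mem h with h | h
      · rcases hq'.mem_or_mem h with h | h
        · exact hMq _ h
        · exact hMq _ h
      · exact hs₀ h
  · rw [mul_assoc (m₃ : B), hm₃, mul_assoc (m₃ : B)]

/-- Common denominators. -/
theorem exists_common {B : Type*} [CommRing B] {J q : Ideal B} (hq : q.IsPrime) (hJ : J.FG)
    (h : PrincAt J q) : ∃ t, t ∉ q ∧ ∃ c ∈ J, ∀ b ∈ J, t * b ∈ Ideal.span {c} := by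
  classical
  obtain ⟨c, hc, hc'⟩ := h
  obtain ⟨T, rfl⟩ := hJ
  have h1 : ∀ b : T, ∃ s, s ∉ q ∧ s * b.1 ∈ Ideal.span {c} := fun b => by
    obtain ⟨s, hs, u, hu⟩ := hc' b.1 (Ideal.subset_span b.2)
    exact ⟨s, hs, Ideal.mem_span_singleton'.2 ⟨u, hu.symm⟩⟩
  choose s hs hs' using h1
  refine ⟨∏ b, s b, fun h => ?_, c, hc, fun b hb => ?_⟩
  · obtain ⟨b, -, hb⟩ := (Ideal.IsPrime.prod_mem_iff (p := q)).1 h
    exact hs b hb
  · refine Submodule.span_induction (p := fun b _ => (∏ b, s b) * b ∈ Ideal.span {c})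
      ?_ ?_ ?_ ?_ hb
    · intro x hx
      obtain ⟨d, hd⟩ : s ⟨x, hx⟩ ∣ ∏ b, s b := Finset.dvd_prod_of_mem _ (Finset.mem_univ _)
      rw [hd, mul_comm (s _), mul_assoc]
      exact Ideal.mul_mem_left _ _ (hs' ⟨x, hx⟩)
    · rw [mul_zero]
      exact Ideal.zero_mem _
    · intro x y _ _ hx hy
      rw [mul_add]
      exact Ideal.add_mem _ hx hy
    · intro a x _ hx
      rw [smul_eq_mul, mul_left_comm]
      exact Ideal.mul_mem_left _ _ hx

theorem map_eq_span {B C : Type*} [CommRing B] [CommRing C] [Algebra B C] {J : Ideal B} (t c : B)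
    [IsLocalization.Away t C] (hc : c ∈ J) (hct : ∀ b ∈ J, t * b ∈ Ideal.span {c}) :
    J.map (algebraMap B C) = Ideal.span {algebraMap B C c} := by
  apply le_antisymm
  · rw [Ideal.map_le_iff_le_comap]
    intro b hb
    rw [Ideal.mem_comap]
    have h2 := Ideal.mem_map_of_mem (algebraMap B C) (hct b hb)
    rw [Ideal.map_span, Set.image_singleton, map_mul,
      Ideal.unit_mul_mem_iff_mem _ (IsLocalization.Away.algebraMap_isUnit t)] at h2
    exact h2
  · rw [Ideal.span_singleton_le_iff_mem]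
    exact Ideal.mem_map_of_mem _ hc

end Alg

section Sch

variable {X : Scheme.{u}}

open Groth.Agent.Divis.CartierBasic

theorem princAt_of_isEff {I : X.IdealSheafData} (hI : BlowUp.IsEffCartierIdeal I)
    (U : X.affineOpens) (Q : Ideal Γ(X, U.1)) (hQ : Q.IsPrime) : PrincAt (I.ideal U) Q := by
  have hy : U.2.fromSpec ⟨Q, hQ⟩ ∈ U.1 := by
    have h1 : U.2.fromSpec ⟨Q, hQ⟩ ∈ Set.range U.2.fromSpec := ⟨_, rfl⟩
    rw [U.2.range_fromSpec] at h1
    exact h1
  obtain ⟨g, -, hg⟩ := exists_stalkIdeal_eq_span hI (U.2.fromSpec ⟨Q, hQ⟩)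
  let := X.presheaf.algebra_section_stalk (⟨U.2.fromSpec ⟨Q, hQ⟩, hy⟩ : U.1)
  have hloc : IsLocalization.AtPrime (X.presheaf.stalk (U.2.fromSpec ⟨Q, hQ⟩)) Q :=
    U.2.isLocalization_stalk' ⟨Q, hQ⟩ hy
  refine princAt_of_map (O := X.presheaf.stalk (U.2.fromSpec ⟨Q, hQ⟩)) _ Q (t := g) ?_
  rw [← hg, stalkIdeal_eq I U hy]
  rfl

theorem exists_generator {J : X.IdealSheafData} (U : X.affineOpens) {x : X} (hx : x ∈ U.1)
    (hfg : (J.ideal U).FG) (h : PrincAt (J.ideal U) (U.2.primeIdealOf ⟨x, hx⟩).asIdeal) :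
    ∃ (t : Γ(X, U.1)) (c : Γ(X, (X.affineBasicOpen t).1)), x ∈ X.basicOpen t ∧
      J.ideal (X.affineBasicOpen t) = Ideal.span {c} := by
  obtain ⟨t, ht, c, hc, hct⟩ := exists_common (U.2.primeIdealOf ⟨x, hx⟩).2 hfg h
  have hloc' : IsLocalization.Away t Γ(X, X.basicOpen t) := U.2.isLocalization_basicOpen t
  let := X.presheaf.algebra_section_stalk (⟨x, hx⟩ : U.1)
  have hloc : IsLocalization.AtPrime (X.presheaf.stalk x) (U.2.primeIdealOf ⟨x, hx⟩).asIdeal :=
    U.2.isLocalization_stalk ⟨x, hx⟩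
  refine ⟨t, algebraMap Γ(X, U.1) Γ(X, X.basicOpen t) c, ?_, ?_⟩
  · rw [Scheme.mem_basicOpen _ _ _ hx]
    exact IsLocalization.map_units (X.presheaf.stalk x)
      (⟨t, ht⟩ : (U.2.primeIdealOf ⟨x, hx⟩).asIdeal.primeCompl)
  · rw [ideal_basicOpen]
    exact map_eq_span t c hc hct

/-- The constants. -/
noncomputable def cst {R : Type u} [CommRing R] (h : X ⟶ Spec (CommRingCat.of R)) (U : X.Opens) :
    R →+* Γ(X, U) :=
  ((Scheme.ΓSpecIso (CommRingCat.of R)).inv ≫ h.appTop ≫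
    X.presheaf.map (homOfLE le_top : U ⟶ ⊤).op).hom

theorem smooth_cst {R : Type u} [CommRing R] (h : X ⟶ Spec (CommRingCat.of R)) [Smooth h]
    (U : X.affineOpens) : (cst h U.1).Smooth := by
  have h1 : (h.appLE ⊤ U.1 le_top).hom.Smooth :=
    HasRingHomProperty.appLE (P := @Smooth) h inferInstance ⟨⊤, isAffineOpen_top _⟩ U le_top
  have h2 := RingHom.Smooth.respectsIso.2 (h.appLE ⊤ U.1 le_top).hom
    (Scheme.ΓSpecIso (CommRingCat.of R)).symm.commRingCatIsoToRingEquiv h1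
  exact h2

variable {R K : Type u} [CommRing R] [IsDomain R] [Field K] [Algebra R K]
  [IsFractionRing R K] {XK : Scheme.{u}} {h : X ⟶ Spec (CommRingCat.of R)}
  {hK : XK ⟶ Spec (CommRingCat.of K)} {g : XK ⟶ X}
  (H : IsPullback g hK h (Spec.map (CommRingCat.ofHom (algebraMap R K))))

omit [IsDomain R] in
include H in
theorem isLocalization (U : X.affineOpens) :
    letI : Algebra R Γ(X, U.1) := (cst h U.1).toAlgebra
    letI : Algebra Γ(X, U.1) Γ(XK, g ⁻¹ᵁ U.1) := (g.app U.1).hom.toAlgebra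
    IsLocalization (Algebra.algebraMapSubmonoid Γ(X, U.1) (nonZeroDivisors R))
      Γ(XK, g ⁻¹ᵁ U.1) := by
  let _ : Algebra R Γ(X, U.1) := (cst h U.1).toAlgebra
  let _ : Algebra Γ(X, U.1) Γ(XK, g ⁻¹ᵁ U.1) := (g.app U.1).hom.toAlgebra
  let _ : Algebra K Γ(XK, g ⁻¹ᵁ U.1) := (cst hK (g ⁻¹ᵁ U.1)).toAlgebra
  let _ : Algebra R Γ(XK, g ⁻¹ᵁ U.1) :=
    ((algebraMap Γ(X, U.1) Γ(XK, g ⁻¹ᵁ U.1)).comp (algebraMap R Γ(X, U.1))).toAlgebra
  have h1 := Groth.Agent.LoccohA.OmPoly.isPushout h g hK H U.2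
  have : IsScalarTower R Γ(X, U.1) Γ(XK, g ⁻¹ᵁ U.1) := IsScalarTower.of_algebraMap_eq fun _ => rfl
  have : IsScalarTower R K Γ(XK, g ⁻¹ᵁ U.1) := IsScalarTower.of_algebraMap_eq fun r =>
    congr($(h1.w) r).symm
  rw [Algebra.isLocalization_iff_isPushout (nonZeroDivisors R) K]
  have h2 := CommRingCat.isPushout_iff_isPushout (R := R) (R' := Γ(X, U.1)) (S := K)
    (S' := Γ(XK, g ⁻¹ᵁ U.1))
  exact h2.1 h1.flip

omit [IsDomain R] [IsFractionRing R K] in
include H in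
theorem isAffineHom : IsAffineHom g :=
  MorphismProperty.of_isPullback H.flip inferInstance

omit [IsDomain R] in
include H in
theorem comap_map (I : XK.IdealSheafData) : (I.map g).comap g = I := by
  have := isAffineHom H
  refine le_antisymm (Scheme.IdealSheafData.comap_map_le _ _) (le_of_stalkIdeal fun x => ?_)
  obtain ⟨U, hU⟩ := exists_affine (g x)
  rw [stalkIdeal_eq I ⟨g ⁻¹ᵁ U.1, U.2.preimage g⟩ hU, stalkIdeal_eq _ ⟨g ⁻¹ᵁ U.1, U.2.preimage g⟩ hU]
  apply Ideal.map_mono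
  rw [Groth.Agent.Divis.IdealComap.ideal_comap _ g U ⟨g ⁻¹ᵁ U.1, U.2.preimage g⟩ le_rfl,
    Scheme.IdealSheafData.ideal_map_of_isAffineHom]
  let _ : Algebra R Γ(X, U.1) := (cst h U.1).toAlgebra
  let _ : Algebra Γ(X, U.1) Γ(XK, g ⁻¹ᵁ U.1) := (g.app U.1).hom.toAlgebra
  have := isLocalization H U
  have h1 := IsLocalization.map_under (Algebra.algebraMapSubmonoid Γ(X, U.1) (nonZeroDivisors R))
    Γ(XK, g ⁻¹ᵁ U.1) (I.ideal ⟨g ⁻¹ᵁ U.1, U.2.preimage g⟩)
  have h2 : g.appLE U.1 (g ⁻¹ᵁ U.1) le_rfl = g.app U.1 := Scheme.Hom.appLE_eq_app _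
  refine h1.ge.trans ?_
  rw [h2]
  exact le_rfl

theorem subsingleton_of_isEmpty {Y : Scheme.{u}} (V : Y.Opens) (hV : ¬ Nonempty V) :
    Subsingleton Γ(Y, V) := by
  have h1 : V = ⊥ := by
    rw [← Opens.not_nonempty_iff_eq_bot]
    rintro ⟨x, hx⟩
    exact hV ⟨x, hx⟩
  rw [h1]
  infer_instance

include H in
theorem nzd [Smooth h] [IsIntegral XK] {I : XK.IdealSheafData} (hI : BlowUp.IsEffCartierIdeal I)
    (D : X.affineOpens) (c : Γ(X, D.1)) (hc : (I.map g).ideal D = Ideal.span {c}) :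
    c ∈ nonZeroDivisors Γ(X, D.1) := by
  have haff := isAffineHom H
  let _ : Algebra R Γ(X, D.1) := (cst h D.1).toAlgebra
  let _ : Algebra Γ(X, D.1) Γ(XK, g ⁻¹ᵁ D.1) := (g.app D.1).hom.toAlgebra
  have hloc := isLocalization H D
  have hsm : Algebra.Smooth R Γ(X, D.1) := smooth_cst h D
  have hfl : Module.Flat R Γ(X, D.1) := inferInstance
  have hM : Algebra.algebraMapSubmonoid Γ(X, D.1) (nonZeroDivisors R) ≤
      nonZeroDivisors Γ(X, D.1) := by
    rintro _ ⟨r, hr, rfl⟩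
    rw [mem_nonZeroDivisors_iff_right]
    intro y hy
    have h1 := Module.Flat.isSMulRegular_of_nonZeroDivisors (M := Γ(X, D.1)) hr
    apply h1
    change r • y = r • 0
    rw [smul_zero, Algebra.smul_def, mul_comm]
    exact hy
  have hinj : Function.Injective (algebraMap Γ(X, D.1) Γ(XK, g ⁻¹ᵁ D.1)) :=
    IsLocalization.injective _ hM
  rw [mem_nonZeroDivisors_iff_right]
  intro y hy
  by_cases hne : Nonempty (g ⁻¹ᵁ D.1 : XK.Opens)
  · have h1 : algebraMap Γ(X, D.1) Γ(XK, g ⁻¹ᵁ D.1) y *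
        algebraMap Γ(X, D.1) Γ(XK, g ⁻¹ᵁ D.1) c = 0 := by
      rw [← map_mul, hy, map_zero]
    rcases mul_eq_zero.1 h1 with h2 | h2
    · exact hinj (by rw [h2, map_zero])
    · exfalso
      have hc0 : c = 0 := hinj (by rw [h2, map_zero])
      have h3 : I.ideal ⟨g ⁻¹ᵁ D.1, D.2.preimage g⟩ = ⊥ := by
        have h4 := IsLocalization.map_under
          (Algebra.algebraMapSubmonoid Γ(X, D.1) (nonZeroDivisors R))
          Γ(XK, g ⁻¹ᵁ D.1) (I.ideal ⟨g ⁻¹ᵁ D.1, D.2.preimage g⟩)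
        have h5 : (I.ideal ⟨g ⁻¹ᵁ D.1, D.2.preimage g⟩).comap
            (algebraMap Γ(X, D.1) Γ(XK, g ⁻¹ᵁ D.1)) = ⊥ :=
          (Scheme.IdealSheafData.ideal_map_of_isAffineHom I g D).symm.trans (by
            rw [hc, hc0]
            simp)
        exact h4.symm.trans ((congrArg (Ideal.map _) h5).trans Ideal.map_bot)
      obtain ⟨z⟩ := hne
      obtain ⟨g', hg', hg''⟩ := exists_stalkIdeal_eq_span hI z.1
      rw [stalkIdeal_eq I ⟨g ⁻¹ᵁ D.1, D.2.preimage g⟩ z.2, h3, Ideal.map_bot] at hg''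
      have h6 : g' = 0 := Ideal.span_singleton_eq_bot.1 hg''.symm
      rw [h6] at hg'
      exact zero_notMem_nonZeroDivisors hg'
  · have := subsingleton_of_isEmpty _ hne
    exact hinj (Subsingleton.elim _ _)

include H in
/-- Effective Cartier divisors extend over valuation rings. -/
theorem isEff_map [ValuationRing R] [Smooth h] [IsIntegral XK] {I : XK.IdealSheafData}
    (hI : BlowUp.IsEffCartierIdeal I) : BlowUp.IsEffCartierIdeal (I.map g) := by
  have haff := isAffineHom H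
  intro x
  obtain ⟨U, hx⟩ := exists_affine x
  have hU : ((I.map g).ideal U).FG ∧
      ∀ q : Ideal Γ(X, U.1), q.IsPrime → PrincAt ((I.map g).ideal U) q := by
    rw [Scheme.IdealSheafData.ideal_map_of_isAffineHom]
    let _ : Algebra R Γ(X, U.1) := (cst h U.1).toAlgebra
    let _ : Algebra Γ(X, U.1) Γ(XK, g ⁻¹ᵁ U.1) := (g.app U.1).hom.toAlgebra
    have := isLocalization H U
    have : Algebra.Smooth R Γ(X, U.1) := smooth_cst h U
    exact princAt_comap (R := R) (I.ideal ⟨_, U.2.preimage g⟩)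
      (princAt_of_isEff hI ⟨_, U.2.preimage g⟩)
  obtain ⟨t, c, hxt, hc⟩ := exists_generator U hx hU.1 (hU.2 _ (U.2.primeIdealOf ⟨x, hx⟩).2)
  exact ⟨X.affineBasicOpen t, hxt, c, nzd H hI _ c hc, hc⟩

end Sch

end K246.ExtIdeal
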