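import Groth.Agent.PicF.K246.ExtIdeal
import Groth.Agent.PicF.K247.PicGenS
import Groth.Agent.PicF.K247.ValExt
import Groth.Agent.Fga.RelCart

/-!
# Extension of line bundles over valuation rings
-/

set_option autoImplicit false
universe u

open CategoryTheory CategoryTheory.Limits AlgebraicGeometry TopologicalSpace Opposite

namespace K246.ExtProp

open Groth.Agent.Grpsch.PicGrp Groth.Agent.Fga.JacFactor

theorem pull_dcl {Y Z : Scheme.{u}} (g : Z ⟶ Y) (D : Y.IdealSheafData)
    (hD : BlowUp.IsEffCartierIdeal D) (E : Z.IdealSheafData) (hE : BlowUp.IsEffCartierIdeal E)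
    (h : D.comap g = E) : pull g (dcl D hD) = dcl E hE := by
  subst h
  obtain ⟨e⟩ := Groth.Agent.Dix.IdealModCartier.pullback_idealMod g hD hE
  exact mk_congr e

variable {R K : Type u} [CommRing R] [IsDomain R] [ValuationRing R] [Field K] [Algebra R K]
  [IsFractionRing R K] {X XK : Scheme.{u}} {h : X ⟶ Spec (CommRingCat.of R)}
  {hK : XK ⟶ Spec (CommRingCat.of K)} {g : XK ⟶ X}
  (H : IsPullback g hK h (Spec.map (CommRingCat.ofHom (algebraMap R K))))

include H in
/-- Extension of classes. -/
theorem exists_pull_eq [Smooth h] [IsSeparated h] [QuasiCompact h] [ConnectedSpace XK] (c : Pic XK) :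
    ∃ c' : Pic X, pull g c' = c := by
  have h1 : Smooth hK := MorphismProperty.of_isPullback H inferInstance
  have h2 : IsSeparated hK := MorphismProperty.of_isPullback H inferInstance
  have h3 : QuasiCompact hK := MorphismProperty.of_isPullback H inferInstance
  have h4 : IsIntegral XK := K247.PicGenS.isIntegral hK
  obtain ⟨I₁, I₂, e₁, e₂, rfl⟩ := K247.PicGenS.exists_eff hK c
  refine ⟨dcl _ (K246.ExtIdeal.isEff_map H e₁) * (dcl _ (K246.ExtIdeal.isEff_map H e₂))⁻¹, ?_⟩
  rw [map_mul, map_inv, pull_dcl g _ _ I₁ e₁ (K246.ExtIdeal.comap_map H I₁),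
    pull_dcl g _ _ I₂ e₂ (K246.ExtIdeal.comap_map H I₂)]

theorem extProp {X S : Scheme.{u}} (f : X ⟶ S) [IsProper f] [Smooth f] [GeometricallyConnected f] :
    K247.ValExt.ExtProp f := by
  intro R K _ _ _ _ _ _ hK b c
  have H := Groth.Agent.Fga.RelCart.isPullback_XTmap f (Over.homMk
        (Spec.map (CommRingCat.ofHom (algebraMap R K))) rfl :
          Over.mk (Spec.map (CommRingCat.ofHom (algebraMap R K)) ≫ b) ⟶ Over.mk b)
  have h1 : Smooth (PicF.XTproj f (Over.mk b)) := inferInstance
  have h2 : IsProper (PicF.XTproj f (Over.mk b)) := inferInstance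
  have h3 : ConnectedSpace (PicF.XT f (Over.mk
      (Spec.map (CommRingCat.ofHom (algebraMap R K)) ≫ b))) :=
    GeometricallyConnected.geometrically_connectedSpace _ _ _
      (IsPullback.of_hasPullback f (Spec.map (CommRingCat.ofHom (algebraMap R K)) ≫ b))
  exact exists_pull_eq (X := PicF.XT f (Over.mk b)) (h := PicF.XTproj f (Over.mk b))
    (hK := PicF.XTproj f (Over.mk (Spec.map (CommRingCat.ofHom (algebraMap R K)) ≫ b))) H c

end K246.ExtProp
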