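import Groth.Agent.PicF.K246.UfdPrinc
import Mathlib.RingTheory.LocalRing.Module
import Mathlib.RingTheory.Flat.Equalizer
import Mathlib.RingTheory.Flat.FaithfullyFlat.Basic
import Mathlib.RingTheory.TensorProduct.Basic
import Mathlib.RingTheory.Support
import Mathlib.RingTheory.LocalRing.ResidueField.Ideal

/-!
# Descent of principality at a prime along a (non flat) base change, for flat quotients
-/

set_option autoImplicit false

open TensorProduct

namespace K246.FlatPrinc

open K246.UfdPrinc

theorem notMem_support_of_field {A N E : Type*} [CommRing A] [AddCommGroup N] [Module A N]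
    [Module.Finite A N] [Field E] [Algebra A E] (p : PrimeSpectrum A)
    (hp : p.asIdeal = RingHom.ker (algebraMap A E)) (h : Subsingleton (E ⊗[A] N)) :
    p ∉ Module.support A N := by
  rw [Module.mem_support_iff_nontrivial_residueField_tensorProduct,
    not_nontrivial_iff_subsingleton]
  let φ : p.asIdeal.ResidueField →+* E :=
    Ideal.ResidueField.lift p.asIdeal (algebraMap A E) hp.le (fun x hx => by
      rw [Submonoid.mem_comap, IsUnit.mem_submonoid_iff, isUnit_iff_ne_zero]
      intro h0
      exact hx (by rw [hp]; exact h0))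
  let _ : Algebra p.asIdeal.ResidueField E := φ.toAlgebra
  have : IsScalarTower A p.asIdeal.ResidueField E := IsScalarTower.of_algebraMap_eq fun x => by
    change _ = φ _
    simp [φ]
  have h1 : Subsingleton (E ⊗[p.asIdeal.ResidueField] (p.asIdeal.ResidueField ⊗[A] N)) :=
    (AlgebraTensorModule.cancelBaseChange A p.asIdeal.ResidueField E E N).subsingleton
  exact Module.FaithfullyFlat.lTensor_reflects_triviality p.asIdeal.ResidueField E _

variable {S D B : Type*} [CommRing S] [CommRing D] [CommRing B] [Algebra S D] [Algebra S B]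
  (J : Ideal B) [Module.Flat S (B ⧸ J)]

/-- The inclusion `D ⊗ J → D ⊗ B`. -/
noncomputable def inc : D ⊗[S] J →ₗ[S] D ⊗[S] B :=
  (J.subtype.restrictScalars S).lTensor D

theorem inc_injective : Function.Injective (inc (S := S) (D := D) J) :=
  LinearMap.lTensor_injective_of_exact_of_flat (J.mkQ.restrictScalars S) J.mkQ_surjective
    (J.subtype.restrictScalars S) J.injective_subtype
    (LinearMap.exact_subtype_mkQ J) D

omit [Module.Flat S (B ⧸ J)] in
theorem inc_mul (n : J) (w : D ⊗[S] B) :
    inc J ((((LinearMap.toSpanSingleton B J n).restrictScalars S).lTensor D) w) =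
      w * (1 ⊗ₜ (n : B)) := by
  induction w with
  | zero => simp
  | add x y hx hy => rw [map_add, map_add, hx, hy, add_mul]
  | tmul d b =>
    simp [inc, Algebra.TensorProduct.tmul_mul_tmul]

theorem princAt (hJ : J.FG) (Q : Ideal (D ⊗[S] B)) [hQ : Q.IsPrime] {j : B} (hj : j ∈ J)
    (h : ∀ n ∈ J, ∃ w, w ∉ Q ∧ ∃ v, w * (1 ⊗ₜ n) = v * (1 ⊗ₜ j)) :
    PrincAt J (Q.comap (Algebra.TensorProduct.includeRight : B →ₐ[S] D ⊗[S] B).toRingHom) := by
  let E := Q.ResidueField
  let ρ : D ⊗[S] B →+* E := algebraMap _ _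
  let ι : B →+* D ⊗[S] B := (Algebra.TensorProduct.includeRight : B →ₐ[S] D ⊗[S] B).toRingHom
  let _ : Algebra B E := (ρ.comp ι).toAlgebra
  let J₁ : Submodule B J := Submodule.span B {⟨j, hj⟩}
  let N := J ⧸ J₁
  have hfin : Module.Finite B J := Module.Finite.iff_fg.2 hJ
  have hjN : (Submodule.Quotient.mk ⟨j, hj⟩ : N) = 0 :=
    (Submodule.Quotient.mk_eq_zero _).2 (Submodule.mem_span_singleton_self _)
  have hE : ∀ (b : B) (e : E) (y : N), (ρ (1 ⊗ₜ b) * e) ⊗ₜ[B] y = e ⊗ₜ[B] (b • y) :=
    fun b e y => TensorProduct.smul_tmul b e y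
  let Φ : D ⊗[S] J →+ E ⊗[B] N := TensorProduct.liftAddHom
    { toFun := fun d =>
        { toFun := fun n => (ρ (d ⊗ₜ 1)) ⊗ₜ[B] (Submodule.Quotient.mk n : N)
          map_zero' := by simp
          map_add' := fun x y => by rw [Submodule.Quotient.mk_add, TensorProduct.tmul_add] }
      map_zero' := by ext; simp
      map_add' := fun x y => by
        ext n
        simp [TensorProduct.add_tmul] } (by
      intro r d n
      change (ρ ((r • d) ⊗ₜ 1)) ⊗ₜ[B] (Submodule.Quotient.mk n : N) =
        (ρ (d ⊗ₜ 1)) ⊗ₜ[B] (Submodule.Quotient.mk (r • n) : N)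
      have h1 : (r • n : J) = (algebraMap S B r) • n := (algebraMap_smul B r n).symm
      have h2 : ((r • d) ⊗ₜ 1 : D ⊗[S] B) = (1 ⊗ₜ algebraMap S B r) * (d ⊗ₜ 1) := by
        rw [Algebra.TensorProduct.tmul_mul_tmul, one_mul, mul_one, TensorProduct.smul_tmul,
          Algebra.algebraMap_eq_smul_one]
      rw [h1, Submodule.Quotient.mk_smul, ← hE, h2, map_mul])
  have hΦ : ∀ (n : J) (w : D ⊗[S] B),
      Φ ((((LinearMap.toSpanSingleton B J n).restrictScalars S).lTensor D) w) =
        (ρ w) ⊗ₜ[B] (Submodule.Quotient.mk n : N) := by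
    intro n w
    induction w with
    | zero => simp
    | add x y hx hy => rw [map_add, map_add, hx, hy, map_add, TensorProduct.add_tmul]
    | tmul d b =>
      change (ρ (d ⊗ₜ 1)) ⊗ₜ[B] (Submodule.Quotient.mk (b • n) : N) = _
      rw [Submodule.Quotient.mk_smul, ← hE, ← map_mul, Algebra.TensorProduct.tmul_mul_tmul,
        one_mul, mul_one]
  have h0 : ∀ n : J, (1 : E) ⊗ₜ[B] (Submodule.Quotient.mk n : N) = 0 := by
    intro n
    obtain ⟨w, hw, v, hwv⟩ := h n n.2
    have h1 : (((LinearMap.toSpanSingleton B J n).restrictScalars S).lTensor D) w =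
        (((LinearMap.toSpanSingleton B J ⟨j, hj⟩).restrictScalars S).lTensor D) v := by
      apply inc_injective J
      rw [inc_mul, inc_mul]
      exact hwv
    have h2 := congrArg Φ h1
    rw [hΦ, hΦ, hjN, TensorProduct.tmul_zero] at h2
    have hw' : ρ w ≠ 0 := by
      intro h3
      exact hw (Ideal.algebraMap_residueField_eq_zero.1 h3)
    have h3 : (ρ w) ⊗ₜ[B] (Submodule.Quotient.mk n : N) =
        (ρ w) • ((1 : E) ⊗ₜ[B] (Submodule.Quotient.mk n : N)) := by
      rw [TensorProduct.smul_tmul', smul_eq_mul, mul_one]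
    rw [h3] at h2
    have h4 := congrArg (fun z => (ρ w)⁻¹ • z) h2
    simpa [smul_smul, inv_mul_cancel₀ hw'] using h4
  have hsub : Subsingleton (E ⊗[B] N) := by
    refine subsingleton_of_forall_eq 0 fun z => ?_
    induction z with
    | zero => rfl
    | add x y hx hy => rw [hx, hy, add_zero]
    | tmul e y =>
      obtain ⟨n, rfl⟩ := Submodule.Quotient.mk_surjective _ y
      have : e ⊗ₜ[B] (Submodule.Quotient.mk n : N) =
          e • ((1 : E) ⊗ₜ[B] (Submodule.Quotient.mk n : N)) := by
        rw [TensorProduct.smul_tmul', smul_eq_mul, mul_one]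
      rw [this, h0, smul_zero]
  have hker : Q.comap ι = RingHom.ker (algebraMap B E) := by
    ext b
    rw [Ideal.mem_comap, RingHom.mem_ker]
    exact Ideal.algebraMap_residueField_eq_zero.symm
  have hsupp := notMem_support_of_field (A := B) (N := N) (E := E) ⟨Q.comap ι, inferInstance⟩
    hker hsub
  rw [Module.notMem_support_iff'] at hsupp
  refine ⟨j, hj, fun b hb => ?_⟩
  obtain ⟨s, hs, hs'⟩ := hsupp (Submodule.Quotient.mk ⟨b, hb⟩)
  refine ⟨s, hs, ?_⟩
  rw [← Submodule.Quotient.mk_smul, Submodule.Quotient.mk_eq_zero,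
    Submodule.mem_span_singleton] at hs'
  obtain ⟨u, hu⟩ := hs'
  exact ⟨u, (congrArg Subtype.val hu).symm⟩

end K246.FlatPrinc
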