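import Groth.Agent.PicF.K246.ThickUnit
import Groth.Agent.PicF.K246.Basic
import Groth.Agent.FormalB.PpFF
import Groth.Agent.CohqB.AlgIso

/-!
# An invertible module which is trivial on all thickenings of the special fibre is trivial
-/

set_option autoImplicit false
universe u

open CategoryTheory CategoryTheory.Limits AlgebraicGeometry TopologicalSpace Opposite
open Groth.Agent.Fdesc Groth.Agent.CohqB.AlgThick Groth.Agent.FormalB.ModPow

namespace K246.FormalTriv

variable {A : Type u} [CommRing A] {X : Scheme.{u}} [X.Over (Spec (CommRingCat.of A))]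

/-- If `a - c` lies in `I O(V)` and `c` becomes a unit on the thickening, then `a` is a unit along
the closed fibre. -/
theorem mem_basicOpen_of_sub_mem (I : Ideal A) {V : X.Opens} (hV : IsAffineOpen V) (n : ℕ)
    {a c : Γ(X, V)} (hac : a - c ∈ I.map (aff (X ↘ Spec (CommRingCat.of A)) V))
    (hc : IsUnit ((CohB1.thickι (X ↘ Spec (CommRingCat.of A)) I n).app V c))
    {x : X} (hxV : x ∈ V) (hx : x ∈ Set.range (CohB1.thickι (X ↘ Spec (CommRingCat.of A)) I n)) :
    x ∈ X.basicOpen a := by
  have hx0 : x ∈ Set.range (CohB1.thickι (X ↘ Spec (CommRingCat.of A)) I 0) := by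
    rw [Groth.Agent.CohqB.AlgIso.mem_range_thickι,
      Groth.Agent.CohqB.AlgIso.mem_range_specQuot] at hx ⊢
    exact hx
  have hcx : x ∈ X.basicOpen c := by
    obtain ⟨y, rfl⟩ := hx
    have h1 : y ∈ (CohB1.thickι (X ↘ Spec (CommRingCat.of A)) I n) ⁻¹ᵁ (X.basicOpen c) := by
      rw [Scheme.preimage_basicOpen]
      rw [Scheme.basicOpen_of_isUnit _ hc]
      exact hxV
    exact h1
  have hrx : x ∉ X.basicOpen (a - c) := by
    intro hmem
    obtain ⟨y, rfl⟩ := hx0
    have sq : IsPullback (CohB1.thickι (X ↘ Spec (CommRingCat.of A)) I 0)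
        (CohB1.thickToBase (X ↘ Spec (CommRingCat.of A)) I 0) (X ↘ Spec (CommRingCat.of A))
        (Spec.map (CommRingCat.ofHom (Ideal.Quotient.mk (I ^ (0 + 1))))) :=
      IsPullback.of_hasPullback _ _
    have h0 : (CohB1.thickι (X ↘ Spec (CommRingCat.of A)) I 0).app V (a - c) = 0 := by
      have := ker_app sq hV
      rw [zero_add, pow_one] at this
      rw [← this] at hac
      exact hac
    have h1 : y ∈ (CohB1.thickι (X ↘ Spec (CommRingCat.of A)) I 0) ⁻¹ᵁ (X.basicOpen (a - c)) := hmem
    rw [Scheme.preimage_basicOpen, h0, Scheme.basicOpen_zero] at h1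
    exact h1
  rw [Scheme.mem_basicOpen _ _ _ hxV] at hcx hrx ⊢
  have h2 : X.presheaf.germ V x hxV a =
      X.presheaf.germ V x hxV c + X.presheaf.germ V x hxV (a - c) := by
    rw [← map_add, add_sub_cancel]
  rw [h2]
  by_contra hu
  refine hrx ?_
  rcases IsLocalRing.isUnit_or_isUnit_of_isUnit_add (a := X.presheaf.germ V x hxV c +
      X.presheaf.germ V x hxV (a - c)) (b := -X.presheaf.germ V x hxV (a - c)) (by simpa using hcx)
      with h | h
  · exact absurd h hu
  · exact (IsUnit.neg_iff _).1 h

/-- The main statement, over a Noetherian ring and an ideal in the Jacobson radical. -/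
theorem nonempty_iso_of_thick [IsNoetherianRing A] (I : Ideal A) (hI : I ≤ Ideal.jacobson ⊥)
    [IsProper (X ↘ Spec (CommRingCat.of A))] {L : X.Modules} (hL : PicF.IsInvertible L)
    (htriv : ∀ N : ℕ, Nonempty ((Scheme.Modules.pullback
      (CohB1.thickι (X ↘ Spec (CommRingCat.of A)) I N)).obj L ≅
        Coh.structureModule (CohB1.thick (X ↘ Spec (CommRingCat.of A)) I N))) :
    Nonempty (L ≅ Coh.structureModule X) := by
  have hcoh := Groth.Agent.Models.TrivGeom.isCoh_of_isInvertible hL
  obtain ⟨c, hc⟩ := Groth.Agent.FormalB.PpFF.exists_ml I hcoh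
  obtain ⟨t, ht⟩ := K246.Basic.nonempty_iso_iff_top.1 (htriv c)
  let i := CohB1.thickι (X ↘ Spec (CommRingCat.of A)) I c
  have sq : IsPullback i
      (CohB1.thickToBase (X ↘ Spec (CommRingCat.of A)) I c) (X ↘ Spec (CommRingCat.of A))
      (Spec.map (CommRingCat.ofHom (Ideal.Quotient.mk (I ^ (c + 1))))) :=
    IsPullback.of_hasPullback _ _
  have hunit := K246.ThickUnit.isModPow_unit i _ sq hL
  obtain ⟨e, he, -⟩ := (isModPow_cπ I L c).exists_iso hunit
  -- the section `t` as a section of `L / I^{c+1} L`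
  let t' : Γ((Formal.completion I L).obj (op c), ⊤) := e.inv.app ⊤ t
  obtain ⟨y, hy⟩ := hc 0 c (Nat.zero_le c) (by omega) t'
  have hgen : CohB1.genLocus L (LocGen.homOf y) = ⊤ := by
    refine Groth.Agent.CohqB.AlgIso.eq_top_of_range_le I hI (X ↘ Spec (CommRingCat.of A)) c _ ?_
    intro x hx
    obtain ⟨V, g, hxV, hV, hg⟩ := Groth.Agent.Models.TrivGeom.exists_affine_gen hL x
    obtain ⟨a, ha⟩ := hg.exists_eq (LocGen.res L le_top y)
    obtain ⟨m, hm⟩ := Groth.Agent.FormalB.ModPowAff.IsModPow.app_surjective hcoh.1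
      (isModPow_cπ I L c) hV (LocGen.res _ le_top t')
    obtain ⟨b, rfl⟩ := hg.exists_eq m
    have hb : IsUnit (i.app V b) := by
      have h1 : ((Scheme.Modules.pullbackPushforwardAdjunction i).unit.app L).app V (b • g) =
          e.hom.app V (LocGen.res _ le_top t') := by
        rw [← hm, ← he]
        rfl
      have h2 : e.hom.app V (LocGen.res _ le_top t') =
          LocGen.res ((Scheme.Modules.pushforward i).obj ((Scheme.Modules.pullback i).obj L))
            (le_top : V ≤ ⊤) t := by
        rw [LocGen.app_res]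
        congr 1
        exact congr(($(e.inv_hom_id).app ⊤) t)
      have h3 : LocGen.pullSec i (b • g) =
          LocGen.res ((Scheme.Modules.pullback i).obj L) (le_top : i ⁻¹ᵁ V ≤ ⊤) t :=
        h1.trans h2
      rw [LocGen.pullSec_smul] at h3
      refine (hg.pullSec i).isUnit_of_smul ?_
      rw [h3]
      exact ht.res _
    have hab : a - b ∈ I.map (aff (X ↘ Spec (CommRingCat.of A)) V) := by
      have h1 : (cπ I L 0).app V (a • g) = (cπ I L 0).app V (b • g) := by
        have h2 : (cπ I L 0).app V (b • g) =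
            ((Formal.completion I L).map (homOfLE (Nat.zero_le c)).op).app V
              ((cπ I L c).app V (b • g)) :=
          congr(($(cπ_map I L (Nat.zero_le c)).app V) (b • g)).symm
        rw [h2, hm, ← ha, LocGen.app_res, LocGen.app_res, hy]
      have h2 : (cπ I L 0).app V ((a - b) • g) = 0 := by
        rw [sub_smul, map_sub, h1, sub_self]
      rw [Groth.Agent.FormalB.ModPowAff.IsModPow.app_eq_zero_iff hcoh.1 (isModPow_cπ I L 0) hV,
        zero_add, pow_one] at h2
      have h3 : ∀ z ∈ I.map (aff (X ↘ Spec (CommRingCat.of A)) V) • (⊤ : Submodule Γ(X, V) Γ(L, V)),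
          ∀ c : Γ(X, V), z = c • g → c ∈ I.map (aff (X ↘ Spec (CommRingCat.of A)) V) := by
        intro z hz
        induction hz using Submodule.smul_induction_on' with
        | smul r hr n _ =>
          intro c hc
          obtain ⟨d, rfl⟩ := hg.exists_eq n
          rw [← mul_smul] at hc
          rw [← hg.ext hc]
          exact Ideal.mul_mem_right _ _ hr
        | add z _ z' _ hz hz' =>
          intro c hc
          obtain ⟨d, rfl⟩ := hg.exists_eq z
          obtain ⟨d', rfl⟩ := hg.exists_eq z'
          rw [← add_smul] at hc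
          rw [← hg.ext hc]
          exact add_mem (hz d rfl) (hz' d' rfl)
      exact h3 _ h2 _ rfl
    have hxa := mem_basicOpen_of_sub_mem I hV c hab hb hxV hx
    have h4 := LocGen.genLocus_inf_eq (LocGen.homOf y) hg (a := a) (by
      rw [LocGen.sec_homOf, ha])
    have h5 : x ∈ CohB1.genLocus L (LocGen.homOf y) ⊓ V := by rw [h4]; exact hxa
    exact h5.1
  have h6 := LocGen.isGen_sec_genLocus (LocGen.homOf y)
  rw [LocGen.sec_homOf] at h6
  refine K246.Basic.nonempty_iso_iff_top.2 ⟨y, ?_⟩
  have h7 : LocGen.IsGen (LocGen.res L (hgen.ge : ⊤ ≤ CohB1.genLocus L (LocGen.homOf y))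
    (LocGen.res L le_top y)) := h6.res _
  simpa using h7

end K246.FormalTriv
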