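import Mathlib.AlgebraicGeometry.Sites.Fpqc
import Mathlib.AlgebraicGeometry.Morphisms.Flat
import Mathlib.AlgebraicGeometry.Morphisms.UnderlyingMap

/-!
# Morphisms which agree on an fppf covering agree
-/

set_option autoImplicit false
universe u

open CategoryTheory CategoryTheory.Limits AlgebraicGeometry

namespace K246.FppfExt

theorem hom_ext {T Z : Scheme.{u}} {R : Presieve T} (hR : R ∈ Scheme.fppfPrecoverage T)
    {x y : T ⟶ Z} (h : ∀ ⦃U : Scheme.{u}⦄ (u : U ⟶ T), R u → u ≫ x = u ≫ y) : x = y := by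
  obtain ⟨ι, U, v, rfl⟩ := R.exists_eq_ofArrows
  obtain ⟨hR1, hR2⟩ := (Scheme.ofArrows_mem_precoverage_iff _).1 hR
  choose i p hp using hR1
  have h1 : ∀ t : T, Flat (v (i t)) := fun t => (hR2 (i t)).1
  let V : (∐ fun t : T => U (i t)) ⟶ T := Sigma.desc fun t => v (i t)
  have hfl : Flat V := inferInstanceAs (Flat (Sigma.desc fun t => v (i t)))
  have hsj : Surjective V := by
    constructor
    intro t
    refine ⟨Sigma.ι (fun t : T => U (i t)) t (p t), ?_⟩
    rw [← Scheme.Hom.comp_apply, Sigma.ι_desc, hp]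
  have := Flat.epi_of_flat_of_surjective V
  rw [← cancel_epi V]
  refine Sigma.hom_ext _ _ fun t => ?_
  rw [Sigma.ι_desc_assoc, Sigma.ι_desc_assoc]
  exact h _ ⟨i t⟩

end K246.FppfExt
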