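import Mathlib.RingTheory.Ideal.Quotient.Operations
import Mathlib.RingTheory.Nakayama
import Mathlib.LinearAlgebra.Dual.Lemmas
import Mathlib.Algebra.Module.Torsion.Basic
import Mathlib.Algebra.Module.Projective
import Mathlib.RingTheory.Finiteness.Basic
import Mathlib.LinearAlgebra.FreeModule.Basic

/-!
# A functional on a finite module which spans the functionals modulo every maximal ideal
-/

set_option autoImplicit false

namespace K246.FunAlg

open Submodule

variable {A : Type*} [CommRing A] {M : Type*} [AddCommGroup M] [Module A M]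

theorem surjective_of_forall (α : M →ₗ[A] A)
    (h1 : ∀ m : Ideal A, m.IsMaximal → ∃ x, α x ∉ m) : ∃ x, α x = 1 := by
  have h : LinearMap.range α = ⊤ := by
    by_contra hne
    obtain ⟨m, hm, hle⟩ := Ideal.exists_le_maximal (LinearMap.range α) hne
    obtain ⟨x, hx⟩ := h1 m hm
    exact hx (hle ⟨x, rfl⟩)
  exact LinearMap.range_eq_top.1 h 1

theorem ker_eq_bot [Module.Finite A M] (α : M →ₗ[A] A)
    (h1 : ∀ m : Ideal A, m.IsMaximal → ∃ x, α x ∉ m)
    (h2 : ∀ m : Ideal A, m.IsMaximal → ∀ γ : M →ₗ[A] A ⧸ m,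
      ∃ c : A ⧸ m, ∀ x, γ x = c * Ideal.Quotient.mk m (α x)) : LinearMap.ker α = ⊥ := by
  obtain ⟨e, he⟩ := surjective_of_forall α h1
  -- the projection to the kernel
  let π : M →ₗ[A] LinearMap.ker α :=
    LinearMap.codRestrict _ (LinearMap.id - (LinearMap.toSpanSingleton A M e).comp α) (by
      intro x
      simp [he])
  have hπ : ∀ x : LinearMap.ker α, π x = x := by
    rintro ⟨x, hx⟩
    ext
    have : α x = 0 := hx
    simp [π, this]
  have hπe : π e = 0 := by
    ext
    simp [π, he]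
  have hfin : Module.Finite A (LinearMap.ker α) :=
    Module.Finite.of_surjective π fun x => ⟨x.1, hπ x⟩
  have hsub : ∀ m : Ideal A, m.IsMaximal → (⊤ : Submodule A (LinearMap.ker α)) ≤ m • ⊤ := by
    intro m hm
    by_contra hne
    have hnt : Nontrivial ((LinearMap.ker α) ⧸ (m • (⊤ : Submodule A (LinearMap.ker α)))) :=
      Submodule.Quotient.nontrivial_iff.2 fun h => hne h.ge
    let _ : Field (A ⧸ m) := Ideal.Quotient.field m
    obtain ⟨v, hv⟩ := exists_ne
      (0 : (LinearMap.ker α) ⧸ (m • (⊤ : Submodule A (LinearMap.ker α))))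
    obtain ⟨ψ, hψ⟩ := Module.Projective.exists_dual_ne_zero (A ⧸ m) hv
    obtain ⟨w, rfl⟩ := Submodule.mkQ_surjective _ v
    let γ : M →ₗ[A] A ⧸ m := (ψ.restrictScalars A).comp ((Submodule.mkQ _).comp π)
    obtain ⟨c, hc⟩ := h2 m hm γ
    have h3 := hc e
    have h4 : γ e = 0 := by
      simp [γ, hπe]
    rw [h4, he, map_one, mul_one] at h3
    have h5 := hc w
    rw [← h3, zero_mul] at h5
    apply hψ
    have h6 : γ w = ψ (Submodule.mkQ _ w) := by
      simp only [γ, LinearMap.comp_apply, hπ]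
      rfl
    rw [← h6, h5]
  have hann : Module.annihilator A (LinearMap.ker α) = ⊤ := by
    by_contra hne
    obtain ⟨m, hm, hle⟩ := Ideal.exists_le_maximal _ hne
    obtain ⟨r, hr, hr'⟩ := Submodule.exists_sub_one_mem_and_smul_eq_zero_of_fg_of_le_smul m
      (⊤ : Submodule A (LinearMap.ker α)) Module.Finite.fg_top (hsub m hm)
    have h7 : r ∈ m := hle (Module.mem_annihilator.2 fun n => hr' n trivial)
    have h8 : (1 : A) ∈ m := by
      have := sub_mem h7 hr
      simpa using this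
    exact hm.ne_top ((Ideal.eq_top_iff_one _).2 h8)
  have h9 : (1 : A) ∈ Module.annihilator A (LinearMap.ker α) := by rw [hann]; trivial
  rw [eq_bot_iff]
  intro x hx
  have := Module.mem_annihilator.1 h9 ⟨x, hx⟩
  rw [one_smul] at this
  exact congr_arg Subtype.val this

theorem exists_eq_mul [Module.Finite A M] (α : M →ₗ[A] A)
    (h1 : ∀ m : Ideal A, m.IsMaximal → ∃ x, α x ∉ m)
    (h2 : ∀ m : Ideal A, m.IsMaximal → ∀ γ : M →ₗ[A] A ⧸ m,
      ∃ c : A ⧸ m, ∀ x, γ x = c * Ideal.Quotient.mk m (α x)) (β : M →ₗ[A] A) :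
    ∃ c : A, ∀ x, β x = c * α x := by
  obtain ⟨e, he⟩ := surjective_of_forall α h1
  refine ⟨β e, fun x => ?_⟩
  have h3 : x - α x • e ∈ LinearMap.ker α := by simp [he]
  rw [ker_eq_bot α h1 h2, Submodule.mem_bot, sub_eq_zero] at h3
  conv_lhs => rw [h3]
  rw [map_smul, smul_eq_mul, mul_comm]

end K246.FunAlg
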