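import Groth.Agent.PerfB.SemiNoeth
import Groth.Agent.PerfB.StructFlat
import Groth.Agent.VarietyA.CurveFin
import Groth.Agent.CurvesA.HHMap
import Groth.Prelude.Def_ega3
import Mathlib.AlgebraicGeometry.AlgClosed.Basic

/-!
# Flat proper morphisms with integral fibres over a scheme of finite type over an algebraically
closed field have one-dimensional `H⁰` of all the fibres
-/

set_option autoImplicit false
universe u

open CategoryTheory CategoryTheory.Limits AlgebraicGeometry
open Groth.Agent

namespace K246.IntFib

/-- The space of global functions and `H⁰`. -/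
theorem finrank_HH_zero (k : Type u) [Field k] (X : Scheme.{u}) [X.Over (Spec (CommRingCat.of k))] :
    letI : Algebra k Γ(X, ⊤) := (VarietyA.GlobalSections.gl (X ↘ Spec (CommRingCat.of k))).hom.toAlgebra
    Module.finrank k (Coh.HH X (Coh.structureModule X) 0) = Module.finrank k Γ(X, ⊤) := by
  let f := X ↘ (Spec (CommRingCat.of k))
  let e := VarietyA.H0Equiv.hZeroEquiv (Coh.structureModule X)
  let _ : Algebra k Γ(X, ⊤) := (VarietyA.GlobalSections.gl f).hom.toAlgebra
  let e' : Coh.HH X (Coh.structureModule X) 0 ≃ₗ[k] Γ(X, ⊤) :=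
    { e with
      map_smul' := fun c x => VarietyA.H0Equiv.hZeroEquiv_smul (Coh.structureModule X) _ x }
  exact e'.finrank_eq

theorem betti_zero_eq {X Y : Scheme.{u}} (f : X ⟶ Y) (y : Y) :
    PerfAux.betti f (Coh.structureModule X) y 0 =
      Module.finrank (Y.residueField y) Γ(f.fiber y, ⊤) := by
  let _ : (f.fiber y).Over (Spec (CommRingCat.of (Y.residueField y))) :=
    ⟨f.fiberToSpecResidueField y⟩
  have h1 := (CurvesA.HHMap.equivOver (Y.residueField y)
    (CurvesA.HHMap.pullbackUnit (f.fiberι y)) 0).finrank_eq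
  have h2 := finrank_HH_zero (Y.residueField y) (f.fiber y)
  exact h1.trans h2

theorem isProper_fiber {X Y : Scheme.{u}} (f : X ⟶ Y) [IsProper f] (y : Y) :
    IsProper (f.fiberToSpecResidueField y) :=
  MorphismProperty.of_isPullback (P := @IsProper)
    (IsPullback.of_hasPullback f (Y.fromSpecResidueField _)) inferInstance

variable {k : Type u} [Field k] [IsAlgClosed k] {X Y : Scheme.{u}}
  (g : Y ⟶ Spec (CommRingCat.of k)) [LocallyOfFiniteType g]

include g in
theorem finrank_closed (f : X ⟶ Y) [IsProper f] (y : Y) (hy : IsClosed ({y} : Set Y))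
    (hint : IsIntegral (f.fiber y)) : PerfAux.betti f (Coh.structureModule X) y 0 = 1 := by
  let _ : (f.fiber y).Over (Spec (CommRingCat.of (Y.residueField y))) :=
    ⟨f.fiberToSpecResidueField y⟩
  have hac : IsAlgClosed (Y.residueField y) :=
    IsAlgClosed.of_ringEquiv k _ (residueFieldIsoBase g y hy).symm.commRingCatIsoToRingEquiv
  have hp : IsProper ((f.fiber y) ↘ Spec (CommRingCat.of (Y.residueField y))) :=
    isProper_fiber f y
  have h1 := (CurvesA.HHMap.equivOver (Y.residueField y)
    (CurvesA.HHMap.pullbackUnit (f.fiberι y)) 0).finrank_eq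
  have h2 := VarietyA.CurveFin.finrank_h0_structure (Y.residueField y) (f.fiber y)
  exact h1.trans h2

include g in
theorem finrank_eq_one (f : X ⟶ Y) [IsProper f] [Flat f] (hint : ∀ y : Y, IsIntegral (f.fiber y))
    (y : Y) : Module.finrank (Y.residueField y) Γ(f.fiber y, ⊤) = 1 := by
  have hY : IsLocallyNoetherian Y := LocallyOfFiniteType.isLocallyNoetherian g
  have hX : IsLocallyNoetherian X := LocallyOfFiniteType.isLocallyNoetherian f
  have hJ : JacobsonSpace Y := LocallyOfFiniteType.jacobsonSpace g
  have hopen : IsOpen {s : Y | PerfAux.betti f (Coh.structureModule X) s 0 < 2} :=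
    PerfB.SemiNoeth.isOpen_betti_lt f (Coh.structureModule X) (CurvesC.UnitCoh.isCoh_unit X)
      (PerfB.StructFlat.isFlatOver_structure f) 0 2
  have hall : {s : Y | PerfAux.betti f (Coh.structureModule X) s 0 < 2}ᶜ = ∅ := by
    by_contra hne
    obtain ⟨z, hz, hz'⟩ := nonempty_inter_closedPoints (Set.nonempty_iff_ne_empty.2 hne)
      hopen.isClosed_compl.isLocallyClosed
    refine hz ?_
    have := finrank_closed g f z hz' (hint z)
    change PerfAux.betti f (Coh.structureModule X) z 0 < 2
    omega
  have hlt : PerfAux.betti f (Coh.structureModule X) y 0 < 2 := by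
    by_contra hcon
    have : y ∈ ({s : Y | PerfAux.betti f (Coh.structureModule X) s 0 < 2}ᶜ : Set Y) := hcon
    rw [hall] at this
    exact this
  rw [betti_zero_eq] at hlt
  have hfin : Module.Finite (Y.residueField y) Γ(f.fiber y, ⊤) := by
    let _ : (f.fiber y).Over (Spec (CommRingCat.of (Y.residueField y))) :=
      ⟨f.fiberToSpecResidueField y⟩
    have hp : IsProper ((f.fiber y) ↘ Spec (CommRingCat.of (Y.residueField y))) :=
      isProper_fiber f y
    have h1 := VarietyA.CurveFin.finite_HH_structure (Y.residueField y) (f.fiber y) 0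
    let e := VarietyA.H0Equiv.hZeroEquiv (Coh.structureModule (f.fiber y))
    let e' : Coh.HH (f.fiber y) (Coh.structureModule (f.fiber y)) 0 ≃ₗ[Y.residueField y]
        Γ(f.fiber y, ⊤) :=
      { e with
        map_smul' := fun c x =>
          VarietyA.H0Equiv.hZeroEquiv_smul (Coh.structureModule (f.fiber y)) _ x }
    exact Module.Finite.equiv e'
  have hne : Nonempty (f.fiber y) := (hint y).nonempty
  have : Nonempty (⊤ : (f.fiber y).Opens) := ⟨⟨Classical.arbitrary _, trivial⟩⟩
  have hnt : Nontrivial Γ(f.fiber y, ⊤) := inferInstance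
  have hpos : 0 < Module.finrank (Y.residueField y) Γ(f.fiber y, ⊤) := Module.finrank_pos
  omega

end K246.IntFib
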