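import Groth.Agent.CohqB.AlgThick
import Groth.Agent.CohqA.AffPush
import Groth.Agent.FormalB.ModPowAff2
import Groth.Agent.Fdesc.LocGenPullback
import Groth.Agent.Models.TrivGeom

/-!
# Reduction modulo an ideal of the base and pullback to the thickening, for invertible modules
-/

set_option autoImplicit false
universe u

open CategoryTheory CategoryTheory.Limits AlgebraicGeometry TopologicalSpace Opposite
open Groth.Agent.Fdesc Groth.Agent.CohqB.AlgThick Groth.Agent.FormalB.ModPow

namespace K246.ThickUnit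

variable {A : Type u} [CommRing A] {X Y : Scheme.{u}} [X.Over (Spec (CommRingCat.of A))]

/-- For `i : Y = X ×_A (A/J) ⟶ X` and an invertible module `L`, the unit `L ⟶ i_* i^* L` exhibits
`i_* i^* L` as `L / J L`. -/
theorem isModPow_unit {J : Ideal A} (i : Y ⟶ X) (b : Y ⟶ Spec (CommRingCat.of (A ⧸ J)))
    (sq : IsPullback i b (X ↘ Spec (CommRingCat.of A))
      (Spec.map (CommRingCat.ofHom (Ideal.Quotient.mk J))))
    {L : X.Modules} (hL : PicF.IsInvertible L) :
    IsModPow J ((Scheme.Modules.pullbackPushforwardAdjunction i).unit.app L) := by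
  have hcl : IsClosedImmersion i := isClosedImmersion sq
  have hq : Coh.IsQCoh L := (Groth.Agent.Models.TrivGeom.isCoh_of_isInvertible hL).1
  have hq' : Coh.IsQCoh ((Scheme.Modules.pullback i).obj L) :=
    (Groth.Agent.Models.TrivGeom.isCoh_of_isInvertible (LocGen.isInvertible_pullback i hL)).1
  refine Groth.Agent.FormalB.ModPowAff2.isModPow_of_affine_cover hq
    (Groth.Agent.CohqA.AffPush.isQCoh_push i _ hq') _ fun x ↦ ?_
  obtain ⟨V, e, hx, hV, he⟩ := Groth.Agent.Models.TrivGeom.exists_affine_gen hL x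
  have he' := he.pullSec i
  refine ⟨V, hx, hV, fun t ↦ ?_, fun m ↦ ?_⟩
  · change Γ((Scheme.Modules.pullback i).obj L, i ⁻¹ᵁ V) at t
    obtain ⟨c, hc⟩ := he'.exists_eq t
    obtain ⟨a, ha⟩ := app_surjective sq hV c
    refine ⟨a • e, ?_⟩
    change LocGen.pullSec i (a • e) = t
    rw [LocGen.pullSec_smul, hc]
    exact congrArg (· • LocGen.pullSec i e) ha
  · obtain ⟨a, rfl⟩ := he.exists_eq m
    change LocGen.pullSec i (a • e) = 0 ↔ _
    rw [LocGen.pullSec_smul]
    have h1 : (i.app V a : Γ(Y, i ⁻¹ᵁ V)) • LocGen.pullSec i e = 0 ↔ i.app V a = 0 :=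
      ⟨fun h ↦ he'.ext (by rw [h, zero_smul]), fun h ↦ by rw [h, zero_smul]⟩
    rw [h1]
    have h2 : i.app V a = 0 ↔ a ∈ J.map (aff (X ↘ Spec (CommRingCat.of A)) V) := by
      rw [← ker_app sq hV]
      rfl
    rw [h2]
    constructor
    · intro h
      exact Submodule.smul_mem_smul h trivial
    · intro h
      have h3 : ∀ z ∈ J.map (aff (X ↘ Spec (CommRingCat.of A)) V) • (⊤ : Submodule Γ(X, V) Γ(L, V)),
          ∀ c : Γ(X, V), z = c • e → c ∈ J.map (aff (X ↘ Spec (CommRingCat.of A)) V) := by
        intro z hz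
        induction hz using Submodule.smul_induction_on' with
        | smul r hr n _ =>
          intro c hc
          obtain ⟨d, rfl⟩ := he.exists_eq n
          rw [← mul_smul] at hc
          rw [← he.ext hc]
          exact Ideal.mul_mem_right _ _ hr
        | add z _ z' _ hz hz' =>
          intro c hc
          obtain ⟨d, rfl⟩ := he.exists_eq z
          obtain ⟨d', rfl⟩ := he.exists_eq z'
          rw [← add_smul] at hc
          rw [← he.ext hc]
          exact add_mem (hz d rfl) (hz' d' rfl)
      exact h3 _ h a rfl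

end K246.ThickUnit
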