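import Mathlib.RingTheory.UniqueFactorizationDomain.Basic
import Mathlib.RingTheory.UniqueFactorizationDomain.Defs
import Mathlib.RingTheory.Ideal.Operations
import Mathlib.RingTheory.Ideal.Maximal
import Mathlib.RingTheory.Nilpotent.Lemmas

/-!
# Saturated ideals of a factorial ring which are locally principal off a divisor are principal
-/

set_option autoImplicit false

namespace K246.UfdPrinc

/-- The ideal `J` is principal at the prime `q`, with a generator in `J`. -/
def PrincAt {B : Type*} [CommRing B] (J q : Ideal B) : Prop :=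
  ∃ c ∈ J, ∀ b ∈ J, ∃ s, s ∉ q ∧ ∃ u, s * b = u * c

variable {O : Type*} [CommRing O] [IsDomain O] [UniqueFactorizationMonoid O]

omit [IsDomain O] in
theorem exists_prime_dvd_mem {c : O} (hc : c ≠ 0) {P : Ideal O} (hP : P.IsPrime) (hcP : c ∈ P) :
    ∃ p, Prime p ∧ p ∣ c ∧ p ∈ P := by
  obtain ⟨f, hf, hf'⟩ := UniqueFactorizationMonoid.exists_prime_factors c hc
  have h1 : f.prod ∈ P := by
    obtain ⟨u, hu⟩ := hf'.symm
    rw [← hu]
    exact P.mul_mem_right _ hcP
  obtain ⟨p, hp, hpP⟩ := (hP.multiset_prod_mem_iff_exists_mem f).1 h1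
  exact ⟨p, hf p hp, (Multiset.dvd_prod hp).trans hf'.dvd, hpP⟩

theorem exists_eq_span (π : O) (I : Ideal O) (ht : ∀ x, π * x ∈ I → x ∈ I)
    (hlp : ∀ P : Ideal O, P.IsPrime → π ∉ P → PrincAt I P) : ∃ g, I = Ideal.span {g} := by
  by_cases hI : I = ⊥
  · exact ⟨0, by simp [hI]⟩
  obtain ⟨a, haI, ha0⟩ := Submodule.exists_mem_ne_zero_of_ne_bot hI
  let T : Set O := {x | ∃ g, a = g * x ∧ ∀ i ∈ I, g ∣ i}
  have hT : T.Nonempty := ⟨a, 1, by simp, fun i _ => one_dvd i⟩
  obtain ⟨x, ⟨g, hgx, hg⟩, hmin⟩ :=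
    (IsWellFounded.wf (r := DvdNotUnit (α := O))).has_min T hT
  have hg0 : g ≠ 0 := by
    rintro rfl
    exact ha0 (by rw [hgx, zero_mul])
  have hx0 : x ≠ 0 := by
    rintro rfl
    exact ha0 (by rw [hgx, mul_zero])
  let I' : Ideal O := Submodule.comap (LinearMap.mulLeft O g) I
  have hI' : ∀ y, y ∈ I' ↔ g * y ∈ I := fun y => Iff.rfl
  have key : ∀ P : Ideal O, P.IsPrime → I' ≤ P → π ∈ P := by
    intro P hP hle
    by_contra hπ
    obtain ⟨c, hcI, hc⟩ := hlp P hP hπ
    obtain ⟨c', rfl⟩ := hg c hcI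
    have hc0 : c' ≠ 0 := by
      rintro rfl
      obtain ⟨s, hs, u, hu⟩ := hc a haI
      rw [mul_zero, mul_zero] at hu
      rcases mul_eq_zero.1 hu with h | h
      · exact hs (h ▸ P.zero_mem)
      · exact ha0 h
    obtain ⟨p, hp, hpc, hpP⟩ := exists_prime_dvd_mem hc0 hP (hle ((hI' c').2 hcI))
    have hall : ∀ y ∈ I', p ∣ y := by
      intro y hy
      obtain ⟨s, hs, u, hu⟩ := hc (g * y) hy
      have h1 : s * y = u * c' := by
        apply mul_left_cancel₀ hg0
        rw [mul_left_comm, hu, mul_left_comm]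
      have h2 : p ∣ s * y := by rw [h1]; exact hpc.mul_left u
      rcases hp.dvd_or_dvd h2 with h | h
      · exact absurd (P.mem_of_dvd h hpP) hs
      · exact h
    have hxI : x ∈ I' := by rw [hI', ← hgx]; exact haI
    obtain ⟨x', hx'⟩ := hall x hxI
    refine hmin x' ⟨g * p, ?_, ?_⟩ ?_
    · rw [hgx, hx', mul_assoc]
    · intro i hi
      obtain ⟨y, rfl⟩ := hg i hi
      exact mul_dvd_mul_left g (hall y ((hI' y).2 hi))
    · refine ⟨?_, p, hp.not_unit, by rw [hx', mul_comm]⟩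
      rintro rfl
      exact hx0 (by rw [hx', mul_zero])
  have hrad : π ∈ I'.radical := by
    rw [Ideal.radical_eq_sInf]
    refine Submodule.mem_sInf.2 fun P hP => key P hP.2 hP.1
  obtain ⟨n, hn⟩ := hrad
  have hone : ∀ n : ℕ, π ^ n ∈ I' → (1 : O) ∈ I' := by
    intro n
    induction n with
    | zero => intro h; simpa using h
    | succ n ih =>
      intro h
      refine ih ?_
      rw [hI'] at h ⊢
      refine ht _ ?_
      rw [mul_left_comm, ← pow_succ']
      exact h
  have h1 := hone n hn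
  rw [hI', mul_one] at h1
  refine ⟨g, le_antisymm (fun i hi => Ideal.mem_span_singleton.2 (hg i hi)) ?_⟩
  rw [Ideal.span_singleton_le_iff_mem]
  exact h1

end K246.UfdPrinc
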