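import Groth.Agent.FlatB.FlatDescGlobal
import Groth.Agent.FlatB.GenFibA
import Mathlib.RingTheory.Smooth.NoetherianDescent
import Mathlib.LinearAlgebra.TensorProduct.RightExactness

/-!
# Noetherian models of smooth algebras with an ideal with flat quotient
-/

set_option autoImplicit false
universe u

open TensorProduct

namespace K246.ValModel

section Quot

variable {A R B : Type u} [CommRing A] [CommRing R] [CommRing B] [Algebra A R] [Algebra A B]

/-- `(R ⊗ B)/J(R ⊗ B) ≅ R ⊗ (B/J)`. -/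
noncomputable def quotEquiv (J : Ideal B) :
    ((R ⊗[A] B) ⧸ J.map (Algebra.TensorProduct.includeRight : B →ₐ[A] R ⊗[A] B).toRingHom) ≃ₐ[R]
      R ⊗[A] (B ⧸ J) :=
  let θ : R ⊗[A] B →ₐ[R] R ⊗[A] (B ⧸ J) :=
    Algebra.TensorProduct.map (AlgHom.id R R) (Ideal.Quotient.mkₐ A J)
  have hk : RingHom.ker (Ideal.Quotient.mkₐ A J) = J := by
    ext x
    simp [RingHom.mem_ker, Ideal.Quotient.eq_zero_iff_mem]
  have h1 : RingHom.ker θ =
      J.map (Algebra.TensorProduct.includeRight : B →ₐ[A] R ⊗[A] B).toRingHom := by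
    have h2 := Algebra.TensorProduct.lTensor_ker (A := R) (g := Ideal.Quotient.mkₐ A J)
      (Ideal.Quotient.mkₐ_surjective A J)
    rw [hk] at h2
    exact h2
  have hs : Function.Surjective θ :=
    Algebra.TensorProduct.map_surjective _ _ Function.surjective_id
      (Ideal.Quotient.mkₐ_surjective A J)
  (Ideal.quotientEquivAlgOfEq R h1.symm).trans (Ideal.quotientKerAlgEquivOfSurjective hs)

/-- Flatness of the quotient of the base change. -/
theorem flat_quot (J : Ideal B) [h : Module.Flat R (R ⊗[A] (B ⧸ J))] :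
    Module.Flat R ((R ⊗[A] B) ⧸
      J.map (Algebra.TensorProduct.includeRight : B →ₐ[A] R ⊗[A] B).toRingHom) :=
  Module.Flat.of_linearEquiv (quotEquiv J).toLinearEquiv

theorem flat_tensor_of_equiv {C : Type u} [CommRing C] [Algebra R C] (J : Ideal B)
    (e : R ⊗[A] B ≃ₐ[R] C) [h : Module.Flat R (C ⧸
      (J.map (Algebra.TensorProduct.includeRight : B →ₐ[A] R ⊗[A] B).toRingHom).map
        (e : R ⊗[A] B →+* C))] :
    Module.Flat R (R ⊗[A] (B ⧸ J)) :=
  Module.Flat.of_linearEquiv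
    ((quotEquiv (A := A) (R := R) (B := B) J).symm.trans
      (Ideal.quotientEquivAlg _ _ e rfl)).toLinearEquiv

end Quot

/-- Lifting the ideal to a finitely generated extension of the base. -/
theorem exists_lift {A₀ R B₀ B : Type u} [CommRing A₀] [IsNoetherianRing A₀] [CommRing R]
    [Algebra A₀ R] [CommRing B₀] [Algebra A₀ B₀] [Algebra.Smooth A₀ B₀] [CommRing B] [Algebra R B]
    (e₀ : B ≃ₐ[R] R ⊗[A₀] B₀) (J : Ideal B) (hJ : J.FG) :
    ∃ (A' B₁ : Type u) (_ : CommRing A') (_ : IsNoetherianRing A') (_ : Algebra A' R)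
      (_ : CommRing B₁) (_ : Algebra A' B₁) (_ : Algebra.Smooth A' B₁) (J₁ : Ideal B₁)
      (e₁ : R ⊗[A'] B₁ ≃ₐ[R] B), J₁.FG ∧
      (J₁.map (Algebra.TensorProduct.includeRight : B₁ →ₐ[A'] R ⊗[A'] B₁).toRingHom).map
        (e₁ : R ⊗[A'] B₁ →+* B) = J := by
  classical
  obtain ⟨t, ht⟩ := hJ
  obtain ⟨A', hA', h'⟩ := Groth.Agent.FlatB.GenFibA.exists_subalgebra_mem (A := A₀) R B₀
    (t.image e₀)
  have hft' : Algebra.FiniteType A₀ A' := (Subalgebra.fg_iff_finiteType _).1 hA'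
  have hN' : IsNoetherianRing A' := Algebra.FiniteType.isNoetherianRing A₀ A'
  have hy : ∀ x : t, ∃ y : A' ⊗[A₀] B₀,
      (Algebra.TensorProduct.map A'.val (AlgHom.id A₀ B₀)) y = e₀ x := fun x =>
    h' A' le_rfl (e₀ x) (Finset.mem_image_of_mem _ x.2)
  choose y hy using hy
  have he : ∀ b : A' ⊗[A₀] B₀, (Algebra.TensorProduct.cancelBaseChange A₀ A' R R B₀) (1 ⊗ₜ b) =
      (Algebra.TensorProduct.map A'.val (AlgHom.id A₀ B₀)) b := by
    intro b
    refine TensorProduct.induction_on b ?_ ?_ ?_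
    · simp
    · intro a b
      simp [Algebra.smul_def]
    · intro x y hx hy
      rw [TensorProduct.tmul_add, map_add, hx, hy, map_add]
  refine ⟨A', A' ⊗[A₀] B₀, inferInstance, hN', inferInstance, inferInstance, inferInstance,
    inferInstance, Ideal.span (Set.range y),
    (Algebra.TensorProduct.cancelBaseChange A₀ A' R R B₀).trans e₀.symm,
    Submodule.fg_span (Set.finite_range y), ?_⟩
  have hy' : ∀ x : t, ((Algebra.TensorProduct.cancelBaseChange A₀ A' R R B₀).trans e₀.symm)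
      (1 ⊗ₜ y x) = x := by
    intro x
    rw [AlgEquiv.trans_apply, he, hy, AlgEquiv.symm_apply_apply]
  rw [Ideal.map_map, Ideal.map_span, ← ht]
  congr 1
  ext z
  constructor
  · rintro ⟨_, ⟨x, rfl⟩, rfl⟩
    have h3 : (((Algebra.TensorProduct.cancelBaseChange A₀ A' R R B₀).trans e₀.symm : _ →+* B).comp
      (Algebra.TensorProduct.includeRight : A' ⊗[A₀] B₀ →ₐ[A'] R ⊗[A'] (A' ⊗[A₀] B₀)).toRingHom)
        (y x) = x := hy' x
    rw [h3]
    exact x.2
  · intro hz
    exact ⟨y ⟨z, hz⟩, ⟨_, rfl⟩, hy' ⟨z, hz⟩⟩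

/-- Descent of flatness to a Noetherian domain. -/
theorem exists_flat {A' R B₁ : Type u} [CommRing A'] [IsNoetherianRing A'] [CommRing R] [IsDomain R]
    [Algebra A' R] [CommRing B₁] [Algebra A' B₁] [Algebra.Smooth A' B₁] (J₁ : Ideal B₁)
    [Module.Flat R (R ⊗[A'] (B₁ ⧸ J₁))] :
    ∃ (S : Type u) (_ : CommRing S) (_ : IsDomain S) (_ : IsNoetherianRing S)
      (_ : Algebra S R) (_ : Algebra A' S) (_ : IsScalarTower A' S R),
      Function.Injective (algebraMap S R) ∧ Module.Flat S (S ⊗[A'] (B₁ ⧸ J₁)) := by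
  have hfp : Algebra.FinitePresentation A' B₁ := inferInstance
  have hft : Algebra.FiniteType A' B₁ := inferInstance
  have hftC : Algebra.FiniteType A' (B₁ ⧸ J₁) := inferInstance
  obtain ⟨A₂, _, _, _, hst, hft, hfl⟩ := Groth.Agent.FlatB.FlatDescGlobal.exists_flat_model
    (A := A') (B := B₁ ⧸ J₁) (R := R)
  have hN₂ : IsNoetherianRing A₂ := Algebra.FiniteType.isNoetherianRing A' A₂
  let S := (algebraMap A₂ R).range
  let _ : Algebra A₂ S := (algebraMap A₂ R).rangeRestrict.toAlgebra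
  let _ : Algebra A' S := ((algebraMap A₂ S).comp (algebraMap A' A₂)).toAlgebra
  have hs1 : IsScalarTower A' A₂ S := IsScalarTower.of_algebraMap_eq fun _ => rfl
  have hs3 : IsScalarTower A' S R := IsScalarTower.of_algebraMap_eq fun x => by
    rw [IsScalarTower.algebraMap_apply A' A₂ R]
    rfl
  have hNS : IsNoetherianRing S :=
    isNoetherianRing_of_surjective A₂ S (algebraMap A₂ S) (RingHom.rangeRestrict_surjective _)
  refine ⟨S, inferInstance, inferInstance, hNS, inferInstance, inferInstance, hs3,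
    Subtype.val_injective, ?_⟩
  exact Module.Flat.of_linearEquiv
      (AlgebraTensorModule.cancelBaseChange A' A₂ S S (B₁ ⧸ J₁)).symm

theorem exists_model {R B : Type u} [CommRing R] [IsDomain R] [CommRing B] [Algebra R B]
    [Algebra.Smooth R B] (J : Ideal B) (hJ : J.FG) [Module.Flat R (B ⧸ J)] :
    ∃ (S B' : Type u) (_ : CommRing S) (_ : IsDomain S) (_ : IsNoetherianRing S)
      (_ : Algebra S R) (_ : CommRing B') (_ : Algebra S B') (_ : Algebra.Smooth S B')
      (J' : Ideal B') (e : R ⊗[S] B' ≃ₐ[R] B), Function.Injective (algebraMap S R) ∧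
      J'.FG ∧ Module.Flat S (B' ⧸ J') ∧
      (J'.map (Algebra.TensorProduct.includeRight : B' →ₐ[S] R ⊗[S] B').toRingHom).map
        (e : R ⊗[S] B' →+* B) = J := by
  obtain ⟨A₀, B₀, _, _, hA₀, hsm, ⟨e₀⟩⟩ := Algebra.Smooth.exists_subalgebra_fg ℤ R B
  have hN₀ : IsNoetherianRing A₀ := by
    have : Algebra.FiniteType ℤ A₀ := (Subalgebra.fg_iff_finiteType _).1 hA₀
    exact Algebra.FiniteType.isNoetherianRing ℤ A₀
  obtain ⟨A', B₁, _, _, _, _, _, _, J₁, e₁, hJ₁, rfl⟩ := exists_lift e₀ J hJ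
  have hfl1 := flat_tensor_of_equiv J₁ e₁
  obtain ⟨S, _, _, _, _, _, _, hinj, hfl⟩ := exists_flat (A' := A') (R := R) J₁
  have hfl3 := flat_quot (A := A') (R := S) J₁
  refine ⟨S, S ⊗[A'] B₁, inferInstance, inferInstance, inferInstance, inferInstance, inferInstance,
    inferInstance, inferInstance, _,
    (Algebra.TensorProduct.cancelBaseChange A' S R R B₁).trans e₁, hinj,
    Ideal.FG.map hJ₁ _, hfl3, ?_⟩
  rw [Ideal.map_map, Ideal.map_map, Ideal.map_map]
  congr 1
  ext b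
  change e₁ (Algebra.TensorProduct.cancelBaseChange A' S R R B₁ (1 ⊗ₜ (1 ⊗ₜ b))) = e₁ (1 ⊗ₜ b)
  simp

end K246.ValModel
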