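import Groth.Agent.PicF.K246.ValModel
import Groth.Agent.PicF.K246.DvrPrinc
import Groth.Agent.S0437
import Mathlib.RingTheory.Flat.TorsionFree
import Mathlib.RingTheory.Valuation.ValuationRing
import Mathlib.Algebra.Module.FinitePresentation

/-!
# Saturated ideals of smooth algebras over valuation rings
-/

set_option autoImplicit false
universe u

open TensorProduct

namespace K246.ValPrinc

open K246.UfdPrinc K246.DvrPrinc

/-- Ideals with flat quotient in smooth algebras over a domain, principal over the generic point. -/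
theorem princAt_of_flat {R B : Type u} [CommRing R] [IsDomain R] [CommRing B] [Algebra R B]
    [Algebra.Smooth R B] (J : Ideal B) (hJ : J.FG) [Module.Flat R (B ⧸ J)]
    (hgen : ∀ q' : Ideal B, q'.IsPrime → q'.comap (algebraMap R B) = ⊥ → PrincAt J q')
    (q : Ideal B) [hq : q.IsPrime] : PrincAt J q := by
  obtain ⟨S, B', _, _, _, _, _, _, _, J', e, hinj, hfg, hfl, rfl⟩ :=
    K246.ValModel.exists_model (R := R) J hJ
  let i : B' →+* R ⊗[S] B' :=
    (Algebra.TensorProduct.includeRight : B' →ₐ[S] R ⊗[S] B').toRingHom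
  rw [Ideal.map_map] at hgen ⊢
  refine princAt_map _ (princAt_of_noetherian (S := S) J' hfg ?_ _)
  intro q' hq' hq'0
  obtain ⟨Q, hQ1, hQ2⟩ := exists_prime_tensor (R := S) (A := R) (B := B')
    ⟨⊥, inferInstance⟩ ⟨q', hq'⟩ (by
      ext1
      change (⊥ : Ideal R).comap (algebraMap S R) = q'.comap (algebraMap S B')
      rw [hq'0]
      exact (RingHom.injective_iff_ker_eq_bot _).1 hinj)
  have hQ2' : Q.asIdeal.comap i = q' := congrArg PrimeSpectrum.asIdeal hQ2
  rw [← hQ2']
  let O := Localization.AtPrime Q.asIdeal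
  let ψ : B' →+* O := (algebraMap (R ⊗[S] B') O).comp i
  -- the corresponding prime of `B`
  let P : Ideal B := Q.asIdeal.comap (e.symm : B →+* R ⊗[S] B')
  have hP0 : P.comap (algebraMap R B) = ⊥ := by
    have h1 : Q.asIdeal.comap Algebra.TensorProduct.includeLeftRingHom = (⊥ : Ideal R) :=
      congrArg PrimeSpectrum.asIdeal hQ1
    rw [← h1, Ideal.comap_comap]
    congr 1
    ext r
    change e.symm (algebraMap R B r) = r ⊗ₜ 1
    rw [AlgEquiv.commutes]
    rfl
  obtain ⟨c, hcJ, hc⟩ := hgen P inferInstance hP0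
  have hspan : Ideal.span (ψ '' J') = Ideal.span {algebraMap (R ⊗[S] B') O (e.symm c)} := by
    apply le_antisymm
    · rw [Ideal.span_le]
      rintro _ ⟨n, hn, rfl⟩
      obtain ⟨s, hs, u, hu⟩ := hc (e (i n)) (Ideal.mem_map_of_mem _ hn)
      have hs' : IsUnit (algebraMap (R ⊗[S] B') O (e.symm s)) :=
        (IsLocalization.AtPrime.isUnit_to_map_iff O Q.asIdeal _).2 hs
      have h1 : algebraMap (R ⊗[S] B') O (e.symm s) * ψ n =
          algebraMap (R ⊗[S] B') O (e.symm u) * algebraMap (R ⊗[S] B') O (e.symm c) := by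
        have h2 := congrArg (fun z => algebraMap (R ⊗[S] B') O (e.symm z)) hu
        simp only [map_mul, AlgEquiv.symm_apply_apply] at h2
        exact h2
      rw [SetLike.mem_coe, ← Ideal.unit_mul_mem_iff_mem _ hs', h1]
      exact Ideal.mul_mem_left _ _ (Ideal.mem_span_singleton_self _)
    · rw [Ideal.span_singleton_le_iff_mem]
      change _ ∈ J'.map ψ
      have h1 : J'.map ψ = (J'.map i).map (algebraMap (R ⊗[S] B') O) :=
        (Ideal.map_map i (algebraMap (R ⊗[S] B') O)).symm
      rw [h1]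
      refine Ideal.mem_map_of_mem _ ?_
      rw [← Ideal.map_map] at hcJ
      have h2 : e.symm c ∈ ((J'.map i).map (e : R ⊗[S] B' →+* B)).map
          (e.symm : B →+* R ⊗[S] B') := Ideal.mem_map_of_mem _ hcJ
      rw [Ideal.map_map] at h2
      have h3 : (e.symm : B →+* R ⊗[S] B').comp (e : R ⊗[S] B' →+* B) = RingHom.id _ := by
        ext z <;> simp
      rw [h3, Ideal.map_id] at h2
      exact h2
  obtain ⟨_, ⟨j, hj, rfl⟩, hdvd⟩ := exists_gen_mem (s := ψ '' J')
    (Set.Nonempty.image _ ⟨0, J'.zero_mem⟩) hspan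
  refine K246.FlatPrinc.princAt J' hfg Q.asIdeal hj fun n hn => ?_
  obtain ⟨v, hv⟩ := hdvd (ψ n) ⟨n, hn, rfl⟩
  obtain ⟨g, w, rfl⟩ := IsLocalization.exists_mk'_eq Q.asIdeal.primeCompl v
  have h6 : algebraMap (R ⊗[S] B') O (w * i n) = algebraMap (R ⊗[S] B') O (g * i j) := by
    rw [map_mul, map_mul]
    change algebraMap (R ⊗[S] B') O w * ψ n = _ * ψ j
    rw [hv, mul_left_comm, mul_comm (algebraMap (R ⊗[S] B') O (w : R ⊗[S] B')),
      IsLocalization.mk'_spec, mul_comm]
  obtain ⟨m, hm⟩ := (IsLocalization.eq_iff_exists Q.asIdeal.primeCompl O).1 h6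
  refine ⟨m * w, fun h => (Q.2.mem_or_mem h).elim m.2 w.2, m * g, ?_⟩
  rw [mul_assoc, mul_assoc]
  exact hm

/-- Saturated ideals of a smooth algebra over a valuation ring are finitely generated, and are
principal at every prime if they are so over the generic point. -/
theorem fg_of_saturated {R B : Type u} [CommRing R] [IsDomain R] [ValuationRing R] [CommRing B]
    [Algebra R B] [Algebra.FinitePresentation R B] (J : Ideal B)
    (htor : ∀ r : R, r ≠ 0 → ∀ b : B, algebraMap R B r * b ∈ J → b ∈ J) :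
    Module.Flat R (B ⧸ J) ∧ J.FG := by
  have htf : Module.IsTorsionFree R (B ⧸ J) := by
    refine Module.IsTorsionFree.of_smul_eq_zero fun r m h => ?_
    obtain ⟨b, rfl⟩ := Ideal.Quotient.mk_surjective m
    by_cases hr : r = 0
    · exact Or.inl hr
    · refine Or.inr (Ideal.Quotient.eq_zero_iff_mem.2 (htor r hr b ?_))
      rw [← Ideal.Quotient.eq_zero_iff_mem, map_mul, ← h, Algebra.smul_def]
      rfl
  have hfl : Module.Flat R (B ⧸ J) := by
    rw [Module.Flat.flat_iff_torsion_eq_bot_of_isBezout, ← Submodule.isTorsionFree_iff_torsion_eq_bot]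
    infer_instance
  refine ⟨hfl, ?_⟩
  have hft : Algebra.FiniteType R B := inferInstance
  have hfp : Module.FinitePresentation B (B ⧸ J) := Groth.Agent.S0437.result (A := R)
  have := Module.FinitePresentation.fg_ker J.mkQ J.mkQ_surjective
  rwa [Submodule.ker_mkQ] at this

end K246.ValPrinc
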